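/-
The centraliser of a 2-central involution of PSp(4,3): data and facts (generated).
-/
import Cfsg.Agent.OR.Refl
import Cfsg.Agent.H56.Mod.S43

set_option autoImplicit false

namespace Cfsg.Agent.OR.P4

open H14

/-- codes of `a b c d j h v w` -/
def consts : List ℕ := [nat_lit 0x6c295a61e2d17e229c9e412359754324c8053cd39285d4c01c6419526048, nat_lit 0x3007198e22a055e2e54849184057cd4db45704352776124218759a3883e6, nat_lit 0x8451a44e09e23d14872da6492000548dd7827ce34a6cc6177259840d0556, nat_lit 0x9d704e7988491e374f6cd0e29821844524c072468c2ca8057d5214656950, nat_lit 0x7667d48134a39499d52833515d67248a161018464b31b78804f14e6821c0, nat_lit 0x2964cf3997448a46e38417c308880636769079c94c2d25266095d51c5440, nat_lit 0x9107a719c38f26552264c6c70884dd54406682129a0cd7d66230122d7445, nat_lit 0x89605e3989441cf4e335b0e714880945f75091c68c2d91a6494095297840]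
def cN : ℕ := nat_lit 0x1618030469a524721158e50f49b4d955770c61a1100027dd7a29cd90a8cb
def gensY : List ℕ := [nat_lit 0x48870461e7515628653196a31507ce2678160540db28b4e61875e43403c2, nat_lit 0x2964cf3997448a46e38417c308880636769079c94c2d25266095d51c5440, nat_lit 0x9107a719c38f26552264c6c70884dd54406682129a0cd7d66230122d7445, nat_lit 0x89605e3989441cf4e335b0e714880945f75091c68c2d91a6494095297840]
def cML0 : Lev := ⟨nat_lit 0, nat_lit 0x4000c10125, (.node (nat_lit 16) (.node (nat_lit 5) (.node (nat_lit 2) (.leaf (nat_lit 0x9e69648e28607de75c6da6585d65544d24503ce34c2ca2481c61440c2040)) (.leaf (nat_lit 0x48870461e7515628653196a31507ce2678160540db28b4e61875e43403c2))) (.node (nat_lit 8) (.leaf (nat_lit 0x9107a719c38f26552264c6c70884dd54406682129a0cd7d66230122d7445)) (.leaf (nat_lit 0x6c295a61e2d17e229c9e412359754324c8053cd39285d4c01c6419526048)))) (.node (nat_lit 23) (.node (nat_lit 22) (.leaf (nat_lit 0x9d704e7988491e374f6cd0e29821844524c072468c2ca8057d5214656950))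 (.leaf (nat_lit 0x8451a44e09e23d14872da6492000548dd7827ce34a6cc6177259840d0556))) (.node (nat_lit 38) (.leaf (nat_lit 0x2d019a2516de3e030786411300804360a8a67cd39d9d28d6725099505557)) (.leaf (nat_lit 0x3007198e22a055e2e54849184057cd4db45704352776124218759a3883e6)))))⟩
def cMC0 : LevCert := ⟨cML0,
    [(nat_lit 8, nat_lit 0), (nat_lit 38, nat_lit 1), (nat_lit 22, nat_lit 2), (nat_lit 16, nat_lit 3), (nat_lit 5, nat_lit 6), (nat_lit 2, nat_lit 1), (nat_lit 23, nat_lit 2)],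
    [[nat_lit 4, nat_lit 2, nat_lit 14, nat_lit 4, nat_lit 6, nat_lit 4, nat_lit 2], [nat_lit 2, nat_lit 4, nat_lit 14, nat_lit 10, nat_lit 10, nat_lit 16, nat_lit 12, nat_lit 4, nat_lit 8]],
    [nat_lit 0x84866754a91c34348c0581891562dd6d47a67ce3e08c76908a50844574c0, nat_lit 0x6484647034d561e34e9611ca5e61146a26d03e304c2df2569c6160482740]⟩
def cML1 : Lev := ⟨nat_lit 1, nat_lit 0xb6ef1ea6ca, (.node (nat_lit 24) (.node (nat_lit 13) (.node (nat_lit 7) (.node (nat_lit 3) (.leaf (nat_lit 0x9e69648e28607de75c6da6585d65544d24503ce34c2ca2481c61440c2040)) (.node (nat_lit 6) (.leaf (nat_lit 0x6d688610d9ce4d42a048795a0888cf65d0d02557cb32192645e5dc045600)) (.leaf (nat_lit 0x6088627099d548a4603cd95a0908d379d0d61cc7c43866e65015cb645900)))) (.node (nat_lit 9) (.leaf (nat_lit 0x64846571319561d34b2a17a45d631f88f52668426381b9d004314e4821c0)) (.node (nat_lit 10) (.leaf (nat_lit 0x25090a31a84b50779c7cf6585e655b0d24568a03443a50487531631829c0))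 (.leaf (nat_lit 0x19079931b94b2523e31e40e715680d29f7486046957018664d108e517880))))) (.node (nat_lit 18) (.node (nat_lit 15) (.leaf (nat_lit 0x6484647034d561e34e9611ca5e61146a26d03e304c2df2569c6160482740)) (.node (nat_lit 17) (.leaf (nat_lit 0x9101932e764c3db5156894610a672274d49606360e1032887c75e0785940)) (.leaf (nat_lit 0x1907a73116cb2433ce66488714811d60a0667d54e08cd69686509c517480)))) (.node (nat_lit 19) (.leaf (nat_lit 0x91019a2d91cc3e55048496d30883833418a675c2a38127d66275d5785440)) (.node (nat_lit 20) (.leaf (nat_lit 0x9101a12c79cc3d15204c995a0968d205d0c834e7dc5626262995c47856c0)) (.leaf (nat_lit 0x6a69c78189237620cc35f1891482c145479629c3c43994d049b095957840)))))) (.node (nat_lit 31) (.node (nat_lit 27) (.node (nat_lit 25) (.leaf (nat_lit 0xe67598d42a09d26847a54c115038d91b1c860c89570985619108b7d73c0)) (.node (nat_lit 26) (.leaf (nat_lit 0x9e69588c68a07d974491a05b5d03913d328848c1d571435626114b0c2780))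 (.leaf (nat_lit 0x2964e139d2448916cb0c190f0a63129de18836051c55a6109595e31c57c0)))) (.node (nat_lit 29) (.leaf (nat_lit 0x84866754a91c34348c0581891562dd6d47a67ce3e08c76908a50844574c0)) (.node (nat_lit 30) (.leaf (nat_lit 0x1d66e439268429e0634539df5c88148439503dc74c2d8266646155882340)) (.leaf (nat_lit 0x9e695b8e11a07c174b61a7a45c830a48f5164d524e1111d036215c0c2640))))) (.node (nat_lit 36) (.node (nat_lit 33) (.leaf (nat_lit 0x4d61d911f90e05288c74a1891662cd9547886233d57278500d10a06d7680)) (.node (nat_lit 34) (.leaf (nat_lit 0x9660e181e0636917ce1a72a20901122474c834b6dc54f6169195cc745500)) (.leaf (nat_lit 0x9660c68016636947d58a746109670f1cd49024460b3139086de5ce745280)))) (.node (nat_lit 37) (.leaf (nat_lit 0x84864156495c3534a32580e715080751f7566cb68e11e8a63ca08c457180)) (.node (nat_lit 39) (.leaf (nat_lit 0x8960673946041c34d579b84d15071d9116667cc4a08c96881a508b2973c0)) (.leaf (nat_lit 0x562a510f84e6dd1dc5226585d055f19246668b3638249c878314c4c2240)))))))⟩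
def cMC1 : LevCert := ⟨cML1,
    [(nat_lit 27, nat_lit 0), (nat_lit 13, nat_lit 1), (nat_lit 19, nat_lit 0), (nat_lit 17, nat_lit 1), (nat_lit 31, nat_lit 0), (nat_lit 29, nat_lit 1), (nat_lit 33, nat_lit 1), (nat_lit 3, nat_lit 0), (nat_lit 37, nat_lit 1), (nat_lit 15, nat_lit 0), (nat_lit 10, nat_lit 1), (nat_lit 20, nat_lit 0), (nat_lit 39, nat_lit 0), (nat_lit 26, nat_lit 1), (nat_lit 30, nat_lit 0), (nat_lit 34, nat_lit 1), (nat_lit 6, nat_lit 0), (nat_lit 24, nat_lit 1), (nat_lit 18, nat_lit 0), (nat_lit 36, nat_lit 0), (nat_lit 7, nat_lit 1), (nat_lit 9, nat_lit 0), (nat_lit 25, nat_lit 0)],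
    [[nat_lit 0, nat_lit 2, nat_lit 2, nat_lit 0, nat_lit 0, nat_lit 2, nat_lit 0, nat_lit 0, nat_lit 2, nat_lit 2, nat_lit 0]],
    [nat_lit 0x34861f5623dc46764c6d22545d62e54c69260ce7a08ca7501da144842040]⟩
def cML2 : Lev := ⟨nat_lit 3, nat_lit 0x200008008, (.node (nat_lit 15) (.leaf (nat_lit 0x9e69648e28607de75c6da6585d65544d24503ce34c2ca2481c61440c2040)) (.node (nat_lit 33) (.leaf (nat_lit 0x34861f5623dc46764c6d22545d62e54c69260ce7a08ca7501da144842040)) (.leaf (nat_lit 0x7905112e20cc90d2606c67655d68d84da7c884e9dc54a6661d21443c2040))))⟩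
def cMC2 : LevCert := ⟨cML2,
    [(nat_lit 15, nat_lit 0), (nat_lit 33, nat_lit 0)],
    [],
    []⟩
def cM : List LevCert := [cMC0, cMC1, cMC2]
def cML : List Lev := [cML0, cML1, cML2]
def cYL0 : Lev := ⟨nat_lit 0, nat_lit 0x800025, (.node (nat_lit 5) (.node (nat_lit 2) (.leaf (nat_lit 0x9e69648e28607de75c6da6585d65544d24503ce34c2ca2481c61440c2040)) (.leaf (nat_lit 0x48870461e7515628653196a31507ce2678160540db28b4e61875e43403c2))) (.node (nat_lit 23) (.leaf (nat_lit 0x9107a719c38f26552264c6c70884dd54406682129a0cd7d66230122d7445)) (.leaf (nat_lit 0x2d024151a86478431874f54d0264470d26568a571b2a73888d315f197802))))⟩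
def cYC0 : LevCert := ⟨cYL0,
    [(nat_lit 2, nat_lit 0), (nat_lit 5, nat_lit 2), (nat_lit 23, nat_lit 1)],
    [[nat_lit 0, nat_lit 2, nat_lit 2, nat_lit 0, nat_lit 4, nat_lit 0], [nat_lit 2, nat_lit 4, nat_lit 8, nat_lit 2]],
    [nat_lit 0x8960673946041c34d579b84d15071d9116667cc4a08c96881a508b2973c0, nat_lit 0x7905112e20cc90d2606c67655d68d84da7c884e9dc54a6661d21443c2040]⟩
def cYL1 : Lev := ⟨nat_lit 1, nat_lit 0xb6ef1ea6ca, (.node (nat_lit 24) (.node (nat_lit 13) (.node (nat_lit 7) (.node (nat_lit 3) (.leaf (nat_lit 0x9e69648e28607de75c6da6585d65544d24503ce34c2ca2481c61440c2040)) (.node (nat_lit 6) (.leaf (nat_lit 0x6d688610d9ce4d42a048795a0888cf65d0d02557cb32192645e5dc045600)) (.leaf (nat_lit 0x5103e231d34b18a91c0de6120a65539d98561e044439a6c89415e32457c0)))) (.node (nat_lit 9) (.leaf (nat_lit 0x7667d48134a39499d52833515d67248a161018464b31b78804f14e6821c0)) (.node (nat_lit 10) (.leaf (nat_lit 0x7667ca8123e39479cc4432545c82db84691689c784398050653155682340))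 (.leaf (nat_lit 0x48835d71b51565a84b1d13de1563272a42669441a38010d04df08e617880))))) (.node (nat_lit 18) (.node (nat_lit 15) (.leaf (nat_lit 0x7667d180f4e394d9ce5031ca5d01181a26c884b05c56465679214c682240)) (.node (nat_lit 17) (.leaf (nat_lit 0x7e66938cd2600db94b49d90f08832265e19605550e1212904475dc9c5600)) (.leaf (nat_lit 0x6a69cd8246e37610ce25f88715011950a04844b4dc55e4963d808c957180)))) (.node (nat_lit 19) (.leaf (nat_lit 0x44848655d1dc8546040d96d30a638f9c189026028b31a91695e5e33457c0)) (.node (nat_lit 20) (.leaf (nat_lit 0x9101a12c79cc3d15204c995a0968d205d0c834e7dc5626262995c47856c0)) (.leaf (nat_lit 0x4883477147d566286079169d1508c19259d628c0c43894e619b08b6173c0)))))) (.node (nat_lit 31) (.node (nat_lit 27) (.node (nat_lit 25) (.leaf (nat_lit 0xe67598d42a09d26847a54c115038d91b1c860c89570985619108b7d73c0)) (.node (nat_lit 26) (.leaf (nat_lit 0x34861455a89c4496447d205b5e63a40d32901a01cb32579674f1638429c0))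 (.leaf (nat_lit 0x2964e139d2448916cb0c190f0a63129de18836051c55a6109595e31c57c0)))) (.node (nat_lit 29) (.leaf (nat_lit 0x3d024d2ca7cc7a11a005469d1568d96e59c844e0dc5474a68980849174c0)) (.node (nat_lit 30) (.leaf (nat_lit 0x1d66e439268429e0634539df5c88148439503dc74c2d8266646155882340)) (.leaf (nat_lit 0x34861b54f69c4416635129df5d080a1839564cb74e1241e67a214c842240))))) (.node (nat_lit 36) (.node (nat_lit 33) (.leaf (nat_lit 0x4d61dd12444e05a89c24a49915056751836694b86381e0c83df08c6d7180)) (.node (nat_lit 34) (.leaf (nat_lit 0x5103c330d04b19f90e49e2a208811a6474e69d56e08e195645d5dc245600)) (.leaf (nat_lit 0x5103d230174b19892389e7c30968211e76886449557134666cd5ce245280)))) (.node (nat_lit 37) (.leaf (nat_lit 0x84864156495c3534a32580e715080751f7566cb68e11e8a63ca08c457180)) (.node (nat_lit 39) (.leaf (nat_lit 0x8960673946041c34d579b84d15071d9116667cc4a08c96881a508b2973c0)) (.leaf (nat_lit 0x562941210ce6c91e06227655c88e449a7d01959cb3117a634f15c4c2640)))))))⟩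
def cYC1 : LevCert := ⟨cYL1,
    [(nat_lit 37, nat_lit 0), (nat_lit 6, nat_lit 0), (nat_lit 24, nat_lit 1), (nat_lit 7, nat_lit 0), (nat_lit 26, nat_lit 1), (nat_lit 33, nat_lit 0), (nat_lit 20, nat_lit 1), (nat_lit 31, nat_lit 0), (nat_lit 9, nat_lit 0), (nat_lit 18, nat_lit 1), (nat_lit 25, nat_lit 0), (nat_lit 15, nat_lit 1), (nat_lit 34, nat_lit 0), (nat_lit 17, nat_lit 1), (nat_lit 10, nat_lit 0), (nat_lit 29, nat_lit 1), (nat_lit 13, nat_lit 0), (nat_lit 3, nat_lit 1), (nat_lit 39, nat_lit 0), (nat_lit 36, nat_lit 1), (nat_lit 30, nat_lit 1), (nat_lit 19, nat_lit 0), (nat_lit 27, nat_lit 0)],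
    [[nat_lit 2, nat_lit 2]],
    [nat_lit 0x34861f5623dc46764c6d22545d62e54c69260ce7a08ca7501da144842040]⟩
def cYL2 : Lev := ⟨nat_lit 3, nat_lit 0x200008008, (.node (nat_lit 15) (.leaf (nat_lit 0x9e69648e28607de75c6da6585d65544d24503ce34c2ca2481c61440c2040)) (.node (nat_lit 33) (.leaf (nat_lit 0x34861f5623dc46764c6d22545d62e54c69260ce7a08ca7501da144842040)) (.leaf (nat_lit 0x7905112e20cc90d2606c67655d68d84da7c884e9dc54a6661d21443c2040))))⟩
def cYC2 : LevCert := ⟨cYL2,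
    [(nat_lit 15, nat_lit 0), (nat_lit 33, nat_lit 0)],
    [],
    []⟩
def cY : List LevCert := [cYC0, cYC1, cYC2]
def cYL : List Lev := [cYL0, cYL1, cYL2]
def invs : List ℕ := [nat_lit 0x9e69648e28607de75c6da6585d65544d24503ce34c2ca2481c61440c2040, nat_lit 0x7667d48134a39499d52833515d67248a161018464b31b78804f14e6821c0, nat_lit 0x4c549519d7cf8448946436d159791c9e560080928b30d38206399e6881d0, nat_lit 0x9d704e7988491e374f6cd0e29821844524c072468c2ca8057d5214656950, nat_lit 0x6029639220547dc45e69b6672052604c774038f34c2c35574845862a6850, nat_lit 0x4427e05131e49556090ca35d2057a38819c010664b31a71784e58f6e6490, nat_lit 0x7571c425149e0609c62996939823ce6218805540cb31b8c595c2243567d0, nat_lit 0x88585c3e794648e4e435a29859751575f4408de6cc2d91021e09890c8050, nat_lit 0x3c54c185f8d28891952832ce4027079601179d830d65b78051d991696908, nat_lit 0x2827c34493189536d57543a059771a78b8c51991214a788004f40d9261c8, nat_lit 0x6c295a61e2d17e229c9e412359754324c8053cd39285d4c01c6419526048,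 nat_lit 0x75725435311979f9d53c180b98572488e3026d28d16069400ca5a11d0688, nat_lit 0x9d77a466238d26575c1878cc9855544c42c22a181844f7c069b5920500c8, nat_lit 0x1858874a58214de3dc6da3044025417e33977512d934a2409279980d6508, nat_lit 0x48870461e7515628653196a31507ce2678160540db28b4e61875e43403c2, nat_lit 0x84854e4499d871349f2cd0e015094479d8d61e468a6cc8a63c15d4640182, nat_lit 0x4d61156dd24a3928948c118b16691c9de30835f3d16208500d95e51c0682, nat_lit 0x89639c2a779b1214e48073cc1665157492c866519846349068d5df0400c2, nat_lit 0x1903205191e42c33ca5498841486e33413a67514e57dc6968675d8780482, nat_lit 0x3d02e390d05431a19b71e4ce1482a06471269d889f9550d649d5d1240842, nat_lit 0x6d604d8a32d31d828f9ce51e0a619980c24871a91285d4507d5003117945, nat_lit 0x51025d3d510679f91334b2810888a770e1e68d26c3699956460021317605, nat_lit 0x2961d94e03220516c67449090a63cd8cb7885435214a761095c01a3977c5, nat_lit 0x60864184c8d234a4432559670906872e075638f7e24de6e6504006717905,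 nat_lit 0x44834748b82165b61a79c7dd0900c13239d61069538892a690e00f557505, nat_lit 0x9107a719c38f26552264c6c70884dd54406682129a0cd7d66230122d7445, nat_lit 0x1168921e55014dc39e69b3060262617e43c845d2d93435508d80a7285817, nat_lit 0x5484936547cd84471d1918c30109e29256962898011cf3a62db09e605317, nat_lit 0x70886236495948e5673d881a01075351f0d66de8c704612630a0894452d7, nat_lit 0x3103c37982891a32c14943a20081da45b4e695912776181655f08d905717, nat_lit 0x3964e105f9078951090ca2cf02679295418862730d65a71081109d6c58d7, nat_lit 0x2d019a2516de3e030786411300804360a8a67cd39d9d28d6725099505557, nat_lit 0x1003148194a32ca3832558865976a43613c245d4e57de6c50582277101e6, nat_lit 0x2c054d8136e370931f84e51140595988a6171da91d9d27823c15831081a6, nat_lit 0x7003a28247a312156728c3472027535090451a565a0db49760f41f2d6466, nat_lit 0x5401138d426039271d6cb6412029e291e1c53df34368a857446425316626, nat_lit 0x3802e48cd86031b11a79c4cf5970d465218262789f9492851d121d550066,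 nat_lit 0x3007198e22a055e2e54849184057cd4db45704352776124218759a3883e6, nat_lit 0x8451a44e09e23d14872da6492000548dd7827ce34a6cc6177259840d0556, nat_lit 0x5027dd29549b9499138113c34008a77216976441811e37852cd20e626316, nat_lit 0x9029676dc84a7de5228d819a4004dd5520d734e3c70602453192044662d6, nat_lit 0x9d766104c90734374a5499589806d22d44453ce7e24dc6828064047888d6, nat_lit 0x4853d48a375319884130335e2001e482724294465b28b45755f98e690716, nat_lit 0x7573521cb50165a9db71e7d19802a13246051849538950c28cf40e248816]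

/-- the model of the centraliser -/
abbrev M : Subgroup (Equiv.Perm (Fin 40)) := H56.S43.E.grp consts
abbrev Y : Subgroup (Equiv.Perm (Fin 40)) := H56.S43.E.grp gensY

theorem consts_valid : allL consts (valid 6 64 40) = true := by decide +kernel
theorem gensY_valid : allL gensY (valid 6 64 40) = true := by decide +kernel
theorem chainM : H56.S43.E.IsChain cML M :=
  Enc.isChain_of_ssOK (cs := cM) (fun P hP => H56.S43.E.exists_pk_of_valid (allL_iff.1 consts_valid P hP))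
    (by decide +kernel)
theorem chainY : H56.S43.E.IsChain cYL Y :=
  Enc.isChain_of_ssOK (cs := cY) (fun P hP => H56.S43.E.exists_pk_of_valid (allL_iff.1 gensY_valid P hP))
    (by decide +kernel)
theorem cardM : Nat.card M = 576 := chainM.card.trans (by decide +kernel)
theorem cardY : Nat.card Y = 288 := chainY.card.trans (by decide +kernel)

variable {G : Type*} [Group G] {C : Code 6 64 40 cML G} {a b c d j h v w : G}

def F_rel : Fm := (.qf (.and (.eq (.mul (.v 0) (.v 0)) .one) (.and (.eq (.mul (.v 1) (.v 1)) .one) (.and (.eq (.mul (.v 2) (.v 2)) .one) (.and (.eq (.mul (.v 3) (.v 3)) .one) (.and (.eq (.mul (.v 0) (.v 1)) (.mul (.v 1) (.v 0))) (.and (.eq (.mul (.v 0) (.v 2)) (.mul (.v 2) (.v 0))) (.and (.eq (.mul (.v 0) (.v 3)) (.mul (.v 3) (.v 0))) (.and (.eq (.mul (.v 1) (.v 2)) (.mul (.v 2) (.v 1))) (.and (.eq (.mul (.v 1) (.v 3)) (.mul (.v 3) (.v 1))) (.and (.eq (.mul (.v 2) (.v 3)) (.mul (.v 3) (.v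 2))) (.eq (.mul (.mul (.mul (.v 0) (.v 1)) (.v 2)) (.v 3)) (.v 4)))))))))))))
theorem ok_rel : Fm.pk 6 64 40 cML F_rel consts = true := by decide +kernel
theorem rel (H : List.Forall₂ C.R consts [a, b, c, d, j, h, v, w]) :
    a * a = 1 ∧ b * b = 1 ∧ c * c = 1 ∧ d * d = 1 ∧ a * b = b * a ∧ a * c = c * a ∧ a * d = d * a ∧ b * c = c * b ∧ b * d = d * b ∧ c * d = d * c ∧ a * b * c * d = j :=
  C.sound F_rel H ok_rel

def F_relh : Fm := (.qf (.and (.eq (.mul (.mul (.v 5) (.v 5)) (.v 5)) .one) (.and (.eq (.mul (.mul (.v 5) (.v 0)) (.inv (.v 5))) (.v 1)) (.and (.eq (.mul (.mul (.v 5) (.v 1)) (.inv (.v 5))) (.v 2)) (.and (.eq (.mul (.mul (.v 5) (.v 2)) (.inv (.v 5))) (.v 0)) (.and (.eq (.mul (.mul (.v 5) (.v 3)) (.inv (.v 5))) (.v 3)) (.ne (.mul (.v 5) (.v 5)) .one)))))))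
theorem ok_relh : Fm.pk 6 64 40 cML F_relh consts = true := by decide +kernel
theorem relh (H : List.Forall₂ C.R consts [a, b, c, d, j, h, v, w]) :
    h * h * h = 1 ∧ h * a * h⁻¹ = b ∧ h * b * h⁻¹ = c ∧ h * c * h⁻¹ = a ∧ h * d * h⁻¹ = d ∧ h * h ≠ 1 :=
  C.sound F_relh H ok_relh

def F_relv : Fm := (.qf (.and (.eq (.mul (.v 6) (.v 6)) .one) (.and (.eq (.mul (.mul (.v 6) (.v 0)) (.inv (.v 6))) (.v 1)) (.and (.eq (.mul (.mul (.v 6) (.v 1)) (.inv (.v 6))) (.v 0)) (.and (.eq (.mul (.mul (.v 6) (.v 2)) (.inv (.v 6))) (.v 3)) (.and (.eq (.mul (.mul (.v 6) (.v 3)) (.inv (.v 6))) (.v 2)) (.and (.eq (.mul (.mul (.mul (.v 6) (.v 5)) (.mul (.v 6) (.v 5))) (.mul (.v 6) (.v 5))) .one) (.ne (.v 6) .one))))))))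
theorem ok_relv : Fm.pk 6 64 40 cML F_relv consts = true := by decide +kernel
theorem relv (H : List.Forall₂ C.R consts [a, b, c, d, j, h, v, w]) :
    v * v = 1 ∧ v * a * v⁻¹ = b ∧ v * b * v⁻¹ = a ∧ v * c * v⁻¹ = d ∧ v * d * v⁻¹ = c ∧ v * h * (v * h) * (v * h) = 1 ∧ v ≠ 1 :=
  C.sound F_relv H ok_relv

def F_relw : Fm := (.qf (.and (.eq (.mul (.mul (.v 7) (.v 7)) (.v 7)) .one) (.and (.eq (.mul (.v 7) (.v 5)) (.mul (.v 5) (.v 7))) (.and (.eq (.mul (.mul (.v 3) (.v 7)) (.inv (.v 3))) (.inv (.v 7))) (.and (.eq (.mul (.mul (.v 4) (.v 7)) (.inv (.v 4))) (.v 7)) (.eq (.mul (.mul (.v 7) (.v 6)) (.inv (.v 7))) (.mul (.v 0) (.v 1))))))))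
theorem ok_relw : Fm.pk 6 64 40 cML F_relw consts = true := by decide +kernel
theorem relw (H : List.Forall₂ C.R consts [a, b, c, d, j, h, v, w]) :
    w * w * w = 1 ∧ w * h = h * w ∧ d * w * d⁻¹ = w⁻¹ ∧ j * w * j⁻¹ = w ∧ w * v * w⁻¹ = a * b :=
  C.sound F_relw H ok_relw

def F_cent : Fm := (.all (.qf (.imp (.eq (.mul (.v 0) (.v 1)) (.mul (.v 1) (.v 0))) (.imp (.eq (.mul (.v 0) (.v 4)) (.mul (.v 4) (.v 0))) (.imp (.eq (.mul (.v 0) (.v 6)) (.mul (.v 6) (.v 0))) (.imp (.eq (.mul (.v 0) (.v 7)) (.mul (.v 7) (.v 0))) (.imp (.eq (.mul (.v 0) (.v 8)) (.mul (.v 8) (.v 0))) (.or (.eq (.v 0) .one) (.eq (.v 0) (.v 5))))))))))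
theorem ok_cent : Fm.pk 6 64 40 cML F_cent consts = true := by decide +kernel
theorem cent (H : List.Forall₂ C.R consts [a, b, c, d, j, h, v, w]) :
    ∀ m ∈ C.S, m * a = a * m → m * d = d * m → m * h = h * m → m * v = v * m → m * w = w * m → m = 1 ∨ m = j :=
  C.sound F_cent H ok_cent

def F_classes : Fm := (.all (.imp (.eq (.mul (.v 0) (.v 0)) .one) (.or (.qf (.eq (.v 0) .one)) (.or (.qf (.eq (.v 0) (.v 5))) (.exL [nat_lit 0x7e668f8c73600e495c4dd61209654605985078e44c2e25082895c49c56c0, nat_lit 0x9e69648e28607de75c6da6585d65544d24503ce34c2ca2481c61440c2040, nat_lit 0xe675e8ca4609cf69c0654991565496d835090e84c2c71888940847d74c0, nat_lit 0x34861f5623dc46764c6d22545d62e54c69260ce7a08ca7501da144842040, nat_lit 0x44848354779c85f60c4d95060962da0493e69ce9208e295029d5c43456c0, nat_lit 0x84866754a91c34348c0581891562dd6d47a67ce3e08c76908a50844574c0, nat_lit 0x7905252d288c91d24444605b5c839f8532a669c1e38189d66431553c2340,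 nat_lit 0x9e695b8e11a07c174b61a7a45c830a48f5164d524e1111d036215c0c2640, nat_lit 0x7905112e20cc90d2606c67655d68d84da7c884e9dc54a6661d21443c2040, nat_lit 0x79051b2c348c9012559463515e670a6a16164e364e11f1c89e21603c2740, nat_lit 0x3d024d2ca7cc7a11a005469d1568d96e59c844e0dc5474a68980849174c0, nat_lit 0xe67418d15209d368b6653de1483076242566d518e10d89084a09c7d7480, nat_lit 0x89604d3a55041e14cb9db3de1663197e424846019c55d4906980a32970c0, nat_lit 0x3d02412df60c79319575484d1667079516566e348e1278880ca0a0917680, nat_lit 0x9101a12c79cc3d15204c995a0968d205d0c834e7dc5626262995c47856c0, nat_lit 0x91019a2d91cc3e55048496d30883833418a675c2a38127d66275d5785440, nat_lit 0x44848655d1dc8546040d96d30a638f9c189026028b31a91695e5e33457c0, nat_lit 0x5103e231d34b18a91c0de6120a65539d98561e044439a6c89415e32457c0, nat_lit 0x34861b54f69c4416635129df5d080a1839564cb74e1241e67a214c842240, nat_lit 0xe67598d42a09d26847a54c115038d91b1c860c89570985619108b7d73c0,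 nat_lit 0x84864156495c3534a32580e715080751f7566cb68e11e8a63ca08c457180] (.qf (.or (.eq (.mul (.mul (.v 0) (.v 1)) (.inv (.v 0))) (.mul (.v 2) (.v 3))) (.or (.eq (.mul (.mul (.v 0) (.v 1)) (.inv (.v 0))) (.v 5)) (.eq (.mul (.mul (.v 0) (.v 1)) (.inv (.v 0))) (.mul (.mul (.v 2) (.v 3)) (.v 4)))))))))))
theorem ok_classes : Fm.pk 6 64 40 cML F_classes consts = true := by decide +kernel
theorem classes (H : List.Forall₂ C.R consts [a, b, c, d, j, h, v, w]) :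
    ∀ m ∈ C.S, m * m = 1 → m = 1 ∨ m = j ∨ (∃ y ∈ C.S, y * m * y⁻¹ = a * b ∨ y * m * y⁻¹ = d ∨ y * m * y⁻¹ = a * b * c) :=
  C.sound F_classes H ok_classes

def F_invl : Fm := (.all (.qf (.imp (.eq (.mul (.v 0) (.v 0)) .one) (.inL (.v 0) invs))))
theorem ok_invl : Fm.pk 6 64 40 cML F_invl consts = true := by decide +kernel
theorem invl (H : List.Forall₂ C.R consts [a, b, c, d, j, h, v, w]) :
    ∀ m ∈ C.S, m * m = 1 → (∃ P ∈ invs, C.R P m) :=
  C.sound F_invl H ok_invl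

def F_cf : Fm := (.allL invs (.imp (.and (.ne (.v 0) .one) (.ne (.v 0) (.v 5))) (.lett (.mul (.v 5) (.v 0)) (.allL invs (.imp (.eq (.mul (.v 2) (.v 0)) (.mul (.v 0) (.v 2))) (.imp (.and (.ne (.v 0) .one) (.and (.ne (.v 0) (.v 7)) (.and (.ne (.v 0) (.v 2)) (.ne (.v 0) (.v 1))))) (.lett (.mul (.v 7) (.v 0)) (.lett (.mul (.v 3) (.v 1)) (.lett (.mul (.v 3) (.v 2)) (.allL invs (.imp (.and (.ne (.v 0) .one) (.and (.ne (.v 0) (.v 11)) (.and (.ne (.v 0) (.v 6)) (.and (.ne (.v 0) (.v 5)) (.and (.ne (.v 0) (.v 4)) (.and (.ne (.v 0) (.v 3)) (.and (.ne (.v 0) (.v 2)) (.ne (.v 0) (.v 1))))))))) (.imp (.eq (.mul (.v 6) (.v 0)) (.mul (.v 0) (.v 6))) (.imp (.eq (.mul (.v 4) (.v 0)) (.mul (.v 0) (.v 4))) (.exL [nat_lit 0x7905112e20cc90d2606c67655d68d84da7c884e9dc54a6661d21443c2040, nat_lit 0x9e69648e28607de75c6da6585d65544d24503ce34c2ca2481c61440c2040, nat_lit 0x34861f5623dc46764c6d22545d62e54c69260ce7a08ca7501da144842040]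 (.qf (.and (.eq (.mul (.mul (.mul (.v 0) (.v 7)) (.inv (.v 0))) (.v 11)) (.mul (.v 11) (.mul (.mul (.v 0) (.v 7)) (.inv (.v 0))))) (.and (.eq (.mul (.mul (.mul (.v 0) (.v 5)) (.inv (.v 0))) (.v 11)) (.mul (.v 11) (.mul (.mul (.v 0) (.v 5)) (.inv (.v 0))))) (.eq (.mul (.mul (.mul (.v 0) (.v 1)) (.inv (.v 0))) (.v 11)) (.mul (.v 11) (.mul (.mul (.v 0) (.v 1)) (.inv (.v 0))))))))))))))))))))))
theorem ok_cf : Fm.pk 6 64 40 cML F_cf consts = true := by decide +kernel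
theorem cf (H : List.Forall₂ C.R consts [a, b, c, d, j, h, v, w]) :
    ∀ x, (∃ P ∈ invs, C.R P x) → x ≠ 1 ∧ x ≠ j → (∀ y, (∃ P ∈ invs, C.R P y) → x * y = y * x → y ≠ 1 ∧ y ≠ j ∧ y ≠ x ∧ y ≠ (j * x) → (∀ z, (∃ P ∈ invs, C.R P z) → z ≠ 1 ∧ z ≠ j ∧ z ≠ x ∧ z ≠ (j * x) ∧ z ≠ y ∧ z ≠ (j * y) ∧ z ≠ (x * y) ∧ z ≠ ((j * x) * y) → x * z = z * x → y * z = z * y → (∃ g ∈ C.S, g * x * g⁻¹ * d = d * (g * x * g⁻¹) ∧ g * y * g⁻¹ * d = d * (g * y * g⁻¹) ∧ g * z * g⁻¹ * d = d * (g * z * g⁻¹)))) :=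
  C.sound F_cf H ok_cf

def F_cd : Fm := (.all (.qf (.imp (.eq (.mul (.v 0) (.v 0)) .one) (.imp (.eq (.mul (.v 0) (.v 4)) (.mul (.v 4) (.v 0))) (.or (.eq (.v 0) .one) (.or (.eq (.v 0) (.v 1)) (.or (.eq (.v 0) (.v 2)) (.or (.eq (.v 0) (.mul (.v 1) (.v 2))) (.or (.eq (.v 0) (.v 3)) (.or (.eq (.v 0) (.mul (.v 1) (.v 3))) (.or (.eq (.v 0) (.mul (.v 2) (.v 3))) (.or (.eq (.v 0) (.mul (.mul (.v 1) (.v 2)) (.v 3))) (.or (.eq (.v 0) (.v 4)) (.or (.eq (.v 0) (.mul (.v 1) (.v 4))) (.or (.eq (.v 0) (.mul (.v 2) (.v 4))) (.or (.eq (.v 0) (.mul (.mul (.v 1) (.v 2)) (.v 4))) (.or (.eq (.v 0) (.mul (.v 3) (.v 4))) (.or (.eq (.v 0) (.mul (.mul (.v 1) (.v 3)) (.v 4))) (.or (.eq (.v 0) (.mul (.mul (.v 2) (.v 3)) (.v 4))) (.eq (.v 0) (.mul (.mul (.mul (.v 1) (.v 2)) (.v 3)) (.v 4))))))))))))))))))))))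
theorem ok_cd : Fm.pk 6 64 40 cML F_cd consts = true := by decide +kernel
theorem cd (H : List.Forall₂ C.R consts [a, b, c, d, j, h, v, w]) :
    ∀ m ∈ C.S, m * m = 1 → m * d = d * m → m = 1 ∨ m = a ∨ m = b ∨ m = a * b ∨ m = c ∨ m = a * c ∨ m = b * c ∨ m = a * b * c ∨ m = d ∨ m = a * d ∨ m = b * d ∨ m = a * b * d ∨ m = c * d ∨ m = a * c * d ∨ m = b * c * d ∨ m = a * b * c * d :=
  C.sound F_cd H ok_cd

def F_cE : Fm := (.all (.qf (.imp (.eq (.mul (.v 0) (.v 1)) (.mul (.v 1) (.v 0))) (.imp (.eq (.mul (.v 0) (.v 2)) (.mul (.v 2) (.v 0))) (.imp (.eq (.mul (.v 0) (.v 3)) (.mul (.v 3) (.v 0))) (.imp (.eq (.mul (.v 0) (.v 4)) (.mul (.v 4) (.v 0))) (.eq (.mul (.v 0) (.v 0)) .one)))))))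
theorem ok_cE : Fm.pk 6 64 40 cML F_cE consts = true := by decide +kernel
theorem cE (H : List.Forall₂ C.R consts [a, b, c, d, j, h, v, w]) :
    ∀ m ∈ C.S, m * a = a * m → m * b = b * m → m * c = c * m → m * d = d * m → m * m = 1 :=
  C.sound F_cE H ok_cE

def F_stab : Fm := (.all (.lett (.mul (.mul (.v 0) (.v 4)) (.inv (.v 0))) (.imp (.eq (.mul (.v 0) (.v 5)) (.mul (.v 5) (.v 0))) (.lett (.mul (.mul (.v 1) (.v 2)) (.inv (.v 1))) (.lett (.mul (.mul (.v 2) (.v 4)) (.inv (.v 2))) (.lett (.mul (.mul (.v 3) (.v 6)) (.inv (.v 3))) (.qf (.or (.and (.eq (.v 2) (.v 5)) (.and (.eq (.v 1) (.v 6)) (.and (.eq (.v 0) (.v 7)) (.eq (.v 3) (.v 8))))) (.or (.and (.eq (.v 2) (.v 5)) (.and (.eq (.v 1) (.v 7)) (.and (.eq (.v 0) (.v 8)) (.eq (.v 3) (.v 6))))) (.or (.and (.eq (.v 2) (.v 5)) (.and (.eq (.v 1) (.v 8)) (.and (.eq (.v 0) (.v 6)) (.eq (.v 3) (.v 7))))) (.or (.and (.eq (.v 2) (.v 6)) (.and (.eq (.v 1) (.v 5)) (.and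 (.eq (.v 0) (.v 8)) (.eq (.v 3) (.v 7))))) (.or (.and (.eq (.v 2) (.v 6)) (.and (.eq (.v 1) (.v 7)) (.and (.eq (.v 0) (.v 5)) (.eq (.v 3) (.v 8))))) (.or (.and (.eq (.v 2) (.v 6)) (.and (.eq (.v 1) (.v 8)) (.and (.eq (.v 0) (.v 7)) (.eq (.v 3) (.v 5))))) (.or (.and (.eq (.v 2) (.v 7)) (.and (.eq (.v 1) (.v 5)) (.and (.eq (.v 0) (.v 6)) (.eq (.v 3) (.v 8))))) (.or (.and (.eq (.v 2) (.v 7)) (.and (.eq (.v 1) (.v 6)) (.and (.eq (.v 0) (.v 8)) (.eq (.v 3) (.v 5))))) (.or (.and (.eq (.v 2) (.v 7)) (.and (.eq (.v 1) (.v 8)) (.and (.eq (.v 0) (.v 5)) (.eq (.v 3) (.v 6))))) (.or (.and (.eq (.v 2) (.v 8)) (.and (.eq (.v 1) (.v 5)) (.and (.eq (.v 0) (.v 7)) (.eq (.v 3) (.v 6))))) (.or (.and (.eq (.v 2) (.v 8)) (.and (.eq (.v 1) (.v 6)) (.and (.eq (.v 0) (.v 5)) (.eq (.v 3) (.v 7))))) (.and (.eq (.v 2) (.v 8)) (.and (.eq (.v 1) (.v 7)) (.and (.eq (.v 0) (.v 6)) (.eq (.v 3) (.v 5)))))))))))))))))))))))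
theorem ok_stab : Fm.pk 6 64 40 cML F_stab consts = true := by decide +kernel
theorem stab (H : List.Forall₂ C.R consts [a, b, c, d, j, h, v, w]) :
    ∀ m ∈ C.S, (m * d * m⁻¹) * d = d * (m * d * m⁻¹) → (m * a * m⁻¹) = a ∧ (m * b * m⁻¹) = b ∧ (m * c * m⁻¹) = c ∧ (m * d * m⁻¹) = d ∨ (m * a * m⁻¹) = a ∧ (m * b * m⁻¹) = c ∧ (m * c * m⁻¹) = d ∧ (m * d * m⁻¹) = b ∨ (m * a * m⁻¹) = a ∧ (m * b * m⁻¹) = d ∧ (m * c * m⁻¹) = b ∧ (m * d * m⁻¹) = c ∨ (m * a * m⁻¹) = b ∧ (m * b * m⁻¹) = a ∧ (m * c * m⁻¹) = d ∧ (m * d * m⁻¹) = c ∨ (m * a * m⁻¹) = b ∧ (m * b * m⁻¹) = c ∧ (m * c * m⁻¹) = a ∧ (m * d * m⁻¹) = d ∨ (m * a * m⁻¹) = b ∧ (m * b * m⁻¹) = d ∧ (m * c * m⁻¹) = c ∧ (m * d * m⁻¹) = a ∨ (m * a * m⁻¹) = c ∧ (m * b * m⁻¹) = a ∧ (m * c * m⁻¹) = b ∧ (m * d * m⁻¹) = d ∨ (m * a * m⁻¹) = c ∧ (m * b * m⁻¹) = b ∧ (m * c * m⁻¹) = d ∧ (m * d * m⁻¹) = a ∨ (m * a * m⁻¹) = c ∧ (m * b * m⁻¹) = d ∧ (m * c * m⁻¹) = a ∧ (m * d * m⁻¹)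 = b ∨ (m * a * m⁻¹) = d ∧ (m * b * m⁻¹) = a ∧ (m * c * m⁻¹) = c ∧ (m * d * m⁻¹) = b ∨ (m * a * m⁻¹) = d ∧ (m * b * m⁻¹) = b ∧ (m * c * m⁻¹) = a ∧ (m * d * m⁻¹) = c ∨ (m * a * m⁻¹) = d ∧ (m * b * m⁻¹) = c ∧ (m * c * m⁻¹) = b ∧ (m * d * m⁻¹) = a :=
  C.sound F_stab H ok_stab

def F_adj1 : Fm := (.all (.imp (.eq (.mul (.v 0) (.v 1)) (.mul (.v 1) (.v 0))) (.imp (.eq (.mul (.v 0) (.v 2)) (.mul (.v 2) (.v 0))) (.imp (.eq (.mul (.v 0) (.v 3)) (.mul (.v 3) (.v 0))) (.imp (.eq (.mul (.v 0) (.v 4)) (.mul (.v 4) (.v 0))) (.imp (.eq (.mul (.mul (.mul (.v 0) (.inv (.v 6))) (.mul (.v 0) (.inv (.v 6)))) (.mul (.v 0) (.inv (.v 6)))) .one) (.exL [nat_lit 0x9e69648e28607de75c6da6585d65544d24503ce34c2ca2481c61440c2040, nat_lit 0x3103c37982891a32c14943a20081da45b4e695912776181655f08d905717, nat_lit 0x48870461e7515628653196a31507ce2678160540db28b4e61875e43403c2, nat_lit 0x2827c34493189536d57543a059771a78b8c51991214a788004f40d9261c8]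 (.qf (.and (.eq (.mul (.v 0) (.v 2)) (.mul (.v 2) (.v 0))) (.and (.eq (.mul (.v 0) (.v 3)) (.mul (.v 3) (.v 0))) (.and (.eq (.mul (.v 0) (.v 4)) (.mul (.v 4) (.v 0))) (.and (.eq (.mul (.v 0) (.v 5)) (.mul (.v 5) (.v 0))) (.eq (.mul (.mul (.v 0) (.mul (.v 1) (.inv (.v 7)))) (.inv (.v 0))) (.inv (.v 7)))))))))))))))
theorem ok_adj1 : Fm.pk 6 64 40 cML F_adj1 consts = true := by decide +kernel
theorem adj1 (H : List.Forall₂ C.R consts [a, b, c, d, j, h, v, w]) :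
    ∀ m ∈ C.S, m * a = a * m → m * b = b * m → m * c = c * m → m * d = d * m → m * h⁻¹ * (m * h⁻¹) * (m * h⁻¹) = 1 → (∃ y ∈ C.S, y * a = a * y ∧ y * b = b * y ∧ y * c = c * y ∧ y * d = d * y ∧ y * (m * h⁻¹) * y⁻¹ = h⁻¹) :=
  C.sound F_adj1 H ok_adj1

def F_adj2 : Fm := (.all (.qf (.imp (.eq (.mul (.v 0) (.v 4)) (.mul (.v 4) (.v 0))) (.imp (.eq (.mul (.v 0) (.v 6)) (.mul (.v 6) (.v 0))) (.imp (.eq (.mul (.v 0) (.v 0)) .one) (.or (.eq (.v 0) .one) (.or (.eq (.v 0) (.v 5)) (.or (.eq (.v 0) (.v 4)) (.eq (.v 0) (.mul (.mul (.v 1) (.v 2)) (.v 3)))))))))))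
theorem ok_adj2 : Fm.pk 6 64 40 cML F_adj2 consts = true := by decide +kernel
theorem adj2 (H : List.Forall₂ C.R consts [a, b, c, d, j, h, v, w]) :
    ∀ m ∈ C.S, m * d = d * m → m * h = h * m → m * m = 1 → m = 1 ∨ m = j ∨ m = d ∨ m = a * b * c :=
  C.sound F_adj2 H ok_adj2

def F_adj3 : Fm := (.all (.qf (.imp (.eq (.mul (.v 0) (.v 1)) (.mul (.v 1) (.v 0))) (.imp (.eq (.mul (.v 0) (.v 2)) (.mul (.v 2) (.v 0))) (.imp (.eq (.mul (.v 0) (.v 3)) (.mul (.v 3) (.v 0))) (.imp (.eq (.mul (.v 0) (.v 4)) (.mul (.v 4) (.v 0))) (.imp (.eq (.mul (.v 0) (.v 7)) (.mul (.v 7) (.v 0))) (.or (.eq (.v 0) .one) (.or (.eq (.v 0) (.mul (.v 1) (.v 2))) (.or (.eq (.v 0) (.mul (.v 3) (.v 4))) (.eq (.v 0) (.v 5))))))))))))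
theorem ok_adj3 : Fm.pk 6 64 40 cML F_adj3 consts = true := by decide +kernel
theorem adj3 (H : List.Forall₂ C.R consts [a, b, c, d, j, h, v, w]) :
    ∀ m ∈ C.S, m * a = a * m → m * b = b * m → m * c = c * m → m * d = d * m → m * v = v * m → m = 1 ∨ m = a * b ∨ m = c * d ∨ m = j :=
  C.sound F_adj3 H ok_adj3

def F_ct : Fm := (.all (.qf (.imp (.eq (.mul (.v 0) (.mul (.v 3) (.v 4))) (.mul (.mul (.v 3) (.v 4)) (.v 0))) (.eq (.mul (.mul (.v 0) (.v 0)) (.mul (.v 0) (.v 0))) .one))))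
theorem ok_ct : Fm.pk 6 64 40 cML F_ct consts = true := by decide +kernel
theorem ct (H : List.Forall₂ C.R consts [a, b, c, d, j, h, v, w]) :
    ∀ m ∈ C.S, m * (c * d) = c * d * m → m * m * (m * m) = 1 :=
  C.sound F_ct H ok_ct

def F_swap : Fm := (.all (.imp (.eq (.mul (.v 0) (.v 0)) .one) (.imp (.eq (.mul (.mul (.v 0) (.v 3)) (.inv (.v 0))) (.v 4)) (.exL [nat_lit 0x84866754a91c34348c0581891562dd6d47a67ce3e08c76908a50844574c0, nat_lit 0x3d02412df60c79319575484d1667079516566e348e1278880ca0a0917680, nat_lit 0x9101a12c79cc3d15204c995a0968d205d0c834e7dc5626262995c47856c0, nat_lit 0x44848655d1dc8546040d96d30a638f9c189026028b31a91695e5e33457c0] (.qf (.eq (.mul (.mul (.v 0) (.v 1)) (.inv (.v 0))) (.mul (.v 2) (.v 3))))))))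
theorem ok_swap : Fm.pk 6 64 40 cML F_swap consts = true := by decide +kernel
theorem swap (H : List.Forall₂ C.R consts [a, b, c, d, j, h, v, w]) :
    ∀ m ∈ C.S, m * m = 1 → m * c * m⁻¹ = d → (∃ y ∈ C.S, y * m * y⁻¹ = a * b) :=
  C.sound F_swap H ok_swap

def F_ch : Fm := (.all (.qf (.imp (.eq (.mul (.v 0) (.v 4)) (.mul (.v 4) (.v 0))) (.imp (.eq (.mul (.v 0) (.v 6)) (.mul (.v 6) (.v 0))) (.or (.eq (.mul (.v 0) (.v 0)) .one) (.or (.eq (.mul (.v 0) (.v 0)) (.v 6)) (.eq (.mul (.v 0) (.v 0)) (.inv (.v 6)))))))))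
theorem ok_ch : Fm.pk 6 64 40 cML F_ch consts = true := by decide +kernel
theorem ch (H : List.Forall₂ C.R consts [a, b, c, d, j, h, v, w]) :
    ∀ m ∈ C.S, m * d = d * m → m * h = h * m → m * m = 1 ∨ m * m = h ∨ m * m = h⁻¹ :=
  C.sound F_ch H ok_ch

def F_stabd : Fm := (.all (.qf (.imp (.eq (.mul (.v 0) (.v 4)) (.mul (.v 4) (.v 0))) (.or (.eq (.mul (.mul (.v 0) (.v 3)) (.inv (.v 0))) (.v 3)) (.or (.eq (.mul (.mul (.v 0) (.v 1)) (.inv (.v 0))) (.v 2)) (.eq (.mul (.mul (.v 0) (.v 2)) (.inv (.v 0))) (.v 1)))))))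
theorem ok_stabd : Fm.pk 6 64 40 cML F_stabd consts = true := by decide +kernel
theorem stabd (H : List.Forall₂ C.R consts [a, b, c, d, j, h, v, w]) :
    ∀ m ∈ C.S, m * d = d * m → m * c * m⁻¹ = c ∨ m * a * m⁻¹ = b ∨ m * b * m⁻¹ = a :=
  C.sound F_stabd H ok_stabd

def F_relj : Fm := (.qf (.and (.eq (.mul (.v 4) (.v 4)) .one) (.and (.ne (.v 4) .one) (.and (.eq (.mul (.v 5) (.v 4)) (.mul (.v 4) (.v 5))) (.and (.eq (.mul (.v 6) (.v 4)) (.mul (.v 4) (.v 6))) (.eq (.mul (.v 7) (.v 4)) (.mul (.v 4) (.v 7))))))))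
theorem ok_relj : Fm.pk 6 64 40 cML F_relj consts = true := by decide +kernel
theorem relj (H : List.Forall₂ C.R consts [a, b, c, d, j, h, v, w]) :
    j * j = 1 ∧ j ≠ 1 ∧ h * j = j * h ∧ v * j = j * v ∧ w * j = j * w :=
  C.sound F_relj H ok_relj

def F_hreal : Fm := (.all (.qf (.ne (.mul (.mul (.v 0) (.v 6)) (.inv (.v 0))) (.inv (.v 6)))))
theorem ok_hreal : Fm.pk 6 64 40 cML F_hreal consts = true := by decide +kernel
theorem hreal (H : List.Forall₂ C.R consts [a, b, c, d, j, h, v, w]) :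
    ∀ m ∈ C.S, m * h * m⁻¹ ≠ h⁻¹ :=
  C.sound F_hreal H ok_hreal

/-- the elements of the elementary abelian group of order 16 -/
def tE (i : ℕ) : Tm := [.one, (.v 0), (.v 1), (.mul (.v 0) (.v 1)), (.v 2), (.mul (.v 0) (.v 2)), (.mul (.v 1) (.v 2)), (.mul (.mul (.v 0) (.v 1)) (.v 2)), (.v 3), (.mul (.v 0) (.v 3)), (.mul (.v 1) (.v 3)), (.mul (.mul (.v 0) (.v 1)) (.v 3)), (.mul (.v 2) (.v 3)), (.mul (.mul (.v 0) (.v 2)) (.v 3)), (.mul (.mul (.v 1) (.v 2)) (.v 3)), (.mul (.mul (.mul (.v 0) (.v 1)) (.v 2)) (.v 3))].getD i .one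
def KT : List (ℕ × Tm) := [(nat_lit 0xfedcba9876543210, .one), (nat_lit 0xfeba7632dc985410, (.mul (.mul (.v 5) (.v 5)) (.v 6))), (nat_lit 0xfe76dc54ba329810, (.mul (.v 6) (.v 5))), (nat_lit 0xfdec7564b9a83120, (.v 6)), (nat_lit 0xfdb9eca875316420, (.v 5)), (nat_lit 0xfd75b931ec64a820, (.mul (.mul (.v 5) (.v 6)) (.v 5))), (nat_lit 0xfbead9c873625140, (.mul (.v 5) (.v 5))), (nat_lit 0xfbd97351eac86240, (.mul (.v 5) (.v 6))), (nat_lit 0xfb73ea62d951c840, (.mul (.mul (.mul (.v 5) (.v 5)) (.v 6)) (.v 5))), (nat_lit 0xf7e6b3a2d5c49180, (.mul (.mul (.v 6) (.v 5)) (.v 6))), (nat_lit 0xf7d5e6c4b391a280, (.mul (.mul (.v 6) (.v 5)) (.v 5))), (nat_lit 0xf7b3d591e6a2c480, (.mul (.mul (.mul (.v 5) (.v 6)) (.v 5)) (.v 5)))]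
def Kl : List ℕ := [nat_lit 0xfedcba9876543210, nat_lit 0xfeba7632dc985410, nat_lit 0xfe76dc54ba329810, nat_lit 0xfdec7564b9a83120, nat_lit 0xfdb9eca875316420, nat_lit 0xfd75b931ec64a820, nat_lit 0xfbead9c873625140, nat_lit 0xfbd97351eac86240, nat_lit 0xfb73ea62d951c840, nat_lit 0xf7e6b3a2d5c49180, nat_lit 0xf7d5e6c4b391a280, nat_lit 0xf7b3d591e6a2c480]
def nb : ℕ := nat_lit 0x8a9bcedf75643120
def consts9 : List ℕ := [nat_lit 0x6c295a61e2d17e229c9e412359754324c8053cd39285d4c01c6419526048, nat_lit 0x3007198e22a055e2e54849184057cd4db45704352776124218759a3883e6, nat_lit 0x8451a44e09e23d14872da6492000548dd7827ce34a6cc6177259840d0556, nat_lit 0x9d704e7988491e374f6cd0e29821844524c072468c2ca8057d5214656950, nat_lit 0x7667d48134a39499d52833515d67248a161018464b31b78804f14e6821c0, nat_lit 0x2964cf3997448a46e38417c308880636769079c94c2d25266095d51c5440, nat_lit 0x9107a719c38f26552264c6c70884dd54406682129a0cd7d66230122d7445,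 nat_lit 0x89605e3989441cf4e335b0e714880945f75091c68c2d91a6494095297840, nat_lit 0x1618030469a524721158e50f49b4d955770c61a1100027dd7a29cd90a8cb]

section

variable {C : Code 6 64 40 H56.S43.certL G} {n : G}

def F_kinv : Fm := (.all (.imp (.eq (.mul (.v 0) (.v 0)) .one) (.or (.qf (.eq (.v 0) .one)) (.exL [nat_lit 0x4602439937a385f19509469d1d62191653cc9ce90b41b49c05888434a5c0, nat_lit 0x9e69648e28607de75c6da6585d65544d24503ce34c2ca2481c61440c2040, nat_lit 0x48c0dd2c551065a7e66e74611d68cf4cd25c9441885429205de88e60a040, nat_lit 0x9cc1dd2e45d07da89c6ca4616235544cd14496608e59e2483c66600d2040, nat_lit 0x1846055913ce2426486d288794b5434ca9265d07a08cd7dc86774c51a040, nat_lit 0x6a65e48c91e075e1506c26580d52e14d288e3dc28458644c50d7c8967040, nat_lit 0x28c61d2c93d089a6446d24610d55974cd92695c7a08c614e5027c81e7040, nat_lit 0xa60e48d152015e7ce6e765894b5874d225c3d018854d88484a74c5da040, nat_lit 0x78e86258994490a4606cd1570d58d84c274c1dc6902c66665127c83e7040]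 (.lett (.mul (.mul (.v 0) (.v 1)) (.inv (.v 0))) (.and (.qf (.eq (.mul (.v 0) (.v 7)) (.mul (.v 7) (.v 0)))) (.exL [nat_lit 0x9e69648e28607de75c6da6585d65544d24503ce34c2ca2481c61440c2040, nat_lit 0x4875e391d79c5a77e686065430b14f4ce55809b28426588300844d18141a, nat_lit 0x1875d57d99cc58d4483dc2658231434ce2d409b2847588a101091e681992, nat_lit 0x3dd5ce44134b9872961847987151610e032409f96365b6a20105094a7213, nat_lit 0x8495ce7c19d54072964843658231433cc7110a450b75b1a200861969e993, nat_lit 0x6875cb44936059e9100cc7587151614ce8e509b28465488f0267e7481206, nat_lit 0xd95ce9017a32072966849d430b14f85c81f09161525b4a202695d18d413, nat_lit 0x91a14e35384b9a21d65043d97150917e031e5e776348194a01024660321b, nat_lit 0x3d024d2ca7cc7a11a005469d1568d96e59c844e0dc5474a68980849174c0, nat_lit 0x9101a12c79cc3d15204c995a0968d205d0c834e7dc5626262995c47856c0, nat_lit 0x7905112e20cc90d2606c67655d68d84da7c884e9dc54a6661d21443c2040, nat_lit 0x34861f5623dc46764c6d22545d62e54c69260ce7a08ca7501da144842040,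 nat_lit 0xe675e8ca4609cf69c0654991565496d835090e84c2c71888940847d74c0, nat_lit 0x44848354779c85f60c4d95060962da0493e69ce9208e295029d5c43456c0, nat_lit 0x7d214e7933e32221d69440c930b0a445c8275cd65518160a02675a52141b, nat_lit 0x84866754a91c34348c0581891562dd6d47a67ce3e08c76908a50844574c0, nat_lit 0x7e668f8c73600e495c4dd61209654605985078e44c2e25082895c49c56c0, nat_lit 0x44614e9d30d54221d660485d82309f90c70d5de24b68150a00865294f99b, nat_lit 0x96214b34686058f7907cc6997150916ce8dd5c11c44892a40269c3613214, nat_lit 0x5221559d20cc5a134891c19d82309f6ce2c95c11c469929101078f953998, nat_lit 0x62216379a3dc5839e646048930b0a46ce5595c11c419d29f008361513425, nat_lit 0x75409c8912a04184889d595310e5c778c8da14f18b6e12590260df06458d, nat_lit 0x2580a089f28c2256a67a351310e5c735c2c61614956c365d0103e40515a7, nat_lit 0x35408e0db7d540a89664445a8235e778c72114f18b953247008498764981, nat_lit 0x66508c8a429c99419034b61310e5c79e05521436a36cf74900885105f59e,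 nat_lit 0x9d808e3db92320a8967447c630b5de35c8031614955136470266a5251401, nat_lit 0x7a508e85b44b98a8962449127155cd9e030f1436a361374701019465f201, nat_lit 0xe67418d15209d368b6653de1483076242566d518e10d89084a09c7d7480, nat_lit 0x3d02412df60c79319575484d1667079516566e348e1278880ca0a0917680, nat_lit 0x84864156495c3534a32580e715080751f7566cb68e11e8a63ca08c457180] (.qf (.or (.eq (.mul (.mul (.v 0) (.v 8)) (.inv (.v 0))) (.v 1)) (.eq (.mul (.mul (.v 0) (.mul (.mul (.v 4) (.v 5)) (.v 6))) (.inv (.v 0))) (.v 1)))))))))))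
theorem ok_kinv : Fm.pk 6 64 40 H56.S43.certL F_kinv consts9 = true := by decide +kernel
theorem kinv (H : List.Forall₂ C.R consts9 [a, b, c, d, j, h, v, w, n]) :
    ∀ m ∈ C.S, m * m = 1 → m = 1 ∨ (∃ y ∈ C.S, (y * m * y⁻¹) * j = j * (y * m * y⁻¹) ∧ (∃ z ∈ C.S, z * j * z⁻¹ = (y * m * y⁻¹) ∨ z * (a * b * c) * z⁻¹ = (y * m * y⁻¹))) :=
  C.sound F_kinv H ok_kinv

end

/-- codes of the letters of the certificate -/
def lets : List ℕ := [nat_lit 0x9e69648e28607de75c6da6585d65544d24503ce34c2ca2481c61440c2040, nat_lit 0x6c295a61e2d17e229c9e412359754324c8053cd39285d4c01c6419526048, nat_lit 0x3007198e22a055e2e54849184057cd4db45704352776124218759a3883e6, nat_lit 0x8451a44e09e23d14872da6492000548dd7827ce34a6cc6177259840d0556, nat_lit 0x9d704e7988491e374f6cd0e29821844524c072468c2ca8057d5214656950, nat_lit 0x2964cf3997448a46e38417c308880636769079c94c2d25266095d51c5440, nat_lit 0x48835e71f6d564f84e75188716610994a0509234cc2e71960d40a0617680,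 nat_lit 0x9107a719c38f26552264c6c70884dd54406682129a0cd7d66230122d7445, nat_lit 0x89605e3989441cf4e335b0e714880945f75091c68c2d91a6494095297840, nat_lit 0x60884f7270554a444e68d2a20a61067474d07a36cc2c35167c95e0645940, nat_lit 0x1618030469a524721158e50f49b4d955770c61a1100027dd7a29cd90a8cb]
def gws : List (List ℕ) := [[2, 8, 10, 5, 7, 8, 4, 10], [1, 7, 10, 4, 8, 2, 10, 7, 5, 5]]
theorem ok_mul : allN 16 (fun i => allN 16 fun k =>
    (QF.eq (.mul (tE i) (tE k)) (tE (Nat.xor i k))).pk 6 64 40 consts) = true := by decide +kernel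
theorem ok_inj : allN 16 (fun i => allN 16 fun k =>
    bimp ((QF.eq (tE i) (tE k)).pk 6 64 40 consts) (Nat.beq i k)) = true := by decide +kernel
theorem ok_KT : allL KT (fun p => allN 16 fun i =>
    (QF.eq (.mul (.mul p.2 (tE i)) (.inv p.2)) (tE (app 4 16 p.1 i))).pk 6 64 40 consts) = true := by decide +kernel
theorem Kl_eq : KT.map Prod.fst = Kl := rfl

end Cfsg.Agent.OR.P4
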