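/-
PSp(4,3): the normaliser of the elementary abelian subgroup of order 16.
-/
import Cfsg.Agent.OR.P4Data
import Cfsg.Agent.H78.TCHom

set_option autoImplicit false

namespace Cfsg.Agent.OR

open H14 H78

section

variable {G : Type*} [Group G] {e : ℕ → G}

/-- the packed map `c` of the 16 indices is induced by conjugation -/
def Rc (e : ℕ → G) (c : ℕ) : Prop := ∃ g : G, ∀ i < 16, g * e i * g⁻¹ = e (app 4 16 c i)

theorem app_lt16 (c i : ℕ) : app 4 16 c i < 16 := Nat.mod_lt _ (by decide)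

theorem app_comp16 (c d : ℕ) {i : ℕ} (hi : i < 16) : app 4 16 (comp 4 16 16 c d) i = app 4 16 c (app 4 16 d i) := by
  rw [comp_eq]
  exact app_pack (k := 4) (n := 16) (f := fun i => app 4 16 c (app 4 16 d i)) (fun _ _ => app_lt16 _ _) hi

theorem Rc.one : Rc e (idP 4 16) :=
  ⟨1, fun i hi => by rw [show app 4 16 (idP 4 16) i = i from app_pack (k := 4) (f := fun i => i) (fun _ h => h) hi]; simp⟩

theorem Rc.comp {c d : ℕ} (hc : Rc e c) (hd : Rc e d) : Rc e (comp 4 16 16 c d) := by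
  obtain ⟨g, hg⟩ := hc
  obtain ⟨k, hk⟩ := hd
  refine ⟨g * k, fun i hi => ?_⟩
  rw [app_comp16 c d hi, ← hg _ (app_lt16 _ _), ← hk i hi]; group

theorem Rc.inv {c d : ℕ} (hc : Rc e c) (hd : ∀ i < 16, app 4 16 c (app 4 16 d i) = i) : Rc e d := by
  obtain ⟨g, hg⟩ := hc
  refine ⟨g⁻¹, fun i hi => ?_⟩
  have := hg _ (app_lt16 d i)
  rw [hd i hi] at this
  rw [← this]; group

theorem Rc.word {L : List ℕ} (hL : ∀ P ∈ L, Rc e P) (w : List ℕ) : Rc e (prodP 4 16 16 L w) := by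
  induction w with
  | nil => exact Rc.one
  | cons c w ih =>
    have : prodP 4 16 16 L (c :: w) = H14.comp 4 16 16 (nthD L (idP 4 16) c) (prodP 4 16 16 L w) := force_eq _ _
    rw [this]
    refine Rc.comp ?_ ih
    rcases nthD_mem_or L (idP 4 16) c with h | h
    · exact hL _ h
    · rw [h]; exact Rc.one

theorem Rc.isConj {c : ℕ} (hc : Rc e c) {i : ℕ} (hi : i < 16) : IsConj (e i) (e (app 4 16 c i)) :=
  let ⟨g, hg⟩ := hc; isConj_iff.2 ⟨g, hg i hi⟩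

/-- the linear map with given values on the basis -/
def linF (a b c d i : ℕ) : ℕ :=
  Nat.xor (Nat.xor (Nat.xor (Nat.mul (Nat.mod i 2) a) (Nat.mul (Nat.mod (Nat.div i 2) 2) b))
    (Nat.mul (Nat.mod (Nat.div i 4) 2) c)) (Nat.mul (Nat.mod (Nat.div i 8) 2) d)

noncomputable def linC (a b c d : ℕ) : ℕ := pack 4 16 (linF a b c d)

theorem bit_lt {β a : ℕ} (ha : a < 16) : Nat.mul (Nat.mod β 2) a < 16 := by
  show β % 2 * a < 16
  rcases Nat.mod_two_eq_zero_or_one β with h | h <;> rw [h] <;> omega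

theorem xor_lt16 {a b : ℕ} (ha : a < 16) (hb : b < 16) : Nat.xor a b < 16 := Nat.xor_lt_two_pow (n := 4) ha hb

theorem app_linC {a b c d i : ℕ} (ha : a < 16) (hb : b < 16) (hc : c < 16) (hd : d < 16) (hi : i < 16) :
    app 4 16 (linC a b c d) i = linF a b c d i :=
  app_pack (k := 4) (f := linF a b c d)
    (fun _ _ => xor_lt16 (xor_lt16 (xor_lt16 (bit_lt ha) (bit_lt hb)) (bit_lt hc)) (bit_lt hd)) hi

theorem conj_lin (e0 : e 0 = 1) (hm : ∀ i < 16, ∀ k < 16, e i * e k = e (Nat.xor i k)) {g : G} {a b c d : ℕ}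
    (ha : a < 16) (hb : b < 16) (hc : c < 16) (hd : d < 16) (h1 : g * e 1 * g⁻¹ = e a) (h2 : g * e 2 * g⁻¹ = e b)
    (h3 : g * e 4 * g⁻¹ = e c) (h4 : g * e 8 * g⁻¹ = e d) :
    ∀ i < 16, g * e i * g⁻¹ = e (app 4 16 (linC a b c d) i) := by
  intro i hi
  have bit : ∀ β s t : ℕ, g * e s * g⁻¹ = e t →
      g * e (Nat.mul (Nat.mod β 2) s) * g⁻¹ = e (Nat.mul (Nat.mod β 2) t) := by
    intro β s t h
    show g * e (β % 2 * s) * g⁻¹ = e (β % 2 * t)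
    rcases Nat.mod_two_eq_zero_or_one β with h' | h' <;> simp [h', e0, h]
  have hl : ∀ {a b c d : ℕ}, a < 16 → b < 16 → c < 16 → d < 16 → e (linF a b c d i) =
      e (Nat.mul (Nat.mod i 2) a) * e (Nat.mul (Nat.mod (Nat.div i 2) 2) b) *
        e (Nat.mul (Nat.mod (Nat.div i 4) 2) c) * e (Nat.mul (Nat.mod (Nat.div i 8) 2) d) := by
    intro a b c d ha hb hc hd
    rw [hm _ (bit_lt ha) _ (bit_lt hb), hm _ (xor_lt16 (bit_lt ha) (bit_lt hb)) _ (bit_lt hc),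
      hm _ (xor_lt16 (xor_lt16 (bit_lt ha) (bit_lt hb)) (bit_lt hc)) _ (bit_lt hd)]
    rfl
  have hi' : linF 1 2 4 8 i = i := (by decide : ∀ i < 16, linF 1 2 4 8 i = i) i hi
  rw [app_linC ha hb hc hd hi, hl ha hb hc hd, ← bit _ _ _ h1, ← bit _ _ _ h2, ← bit _ _ _ h3, ← bit _ _ _ h4]
  conv_lhs => rw [← hi', hl (by decide) (by decide) (by decide) (by decide)]
  group

end

namespace P4

noncomputable def kOK (P : ℕ) : Bool := anyL Kl fun k => Nat.beq (app 4 16 P 1) (app 4 16 k 1) &&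
  Nat.beq (app 4 16 P 2) (app 4 16 k 2) && Nat.beq (app 4 16 P 4) (app 4 16 k 4) &&
  Nat.beq (app 4 16 P 8) (app 4 16 k 8)

noncomputable def linChk (x : ℕ) (W : List (List ℕ)) (t : ℕ) : Bool :=
  allN 16 fun a => allN 16 fun b => allN 16 fun c => allN 16 fun d => bimp (Nat.beq (linF a b c d x) 15)
    (force (linC a b c d) fun P => bimp (allN 15 fun i => Nat.ble 1 (app 4 16 P (Nat.succ i)))
      (force (inv 4 16 16 P) fun Q => allN 16 (fun i => Nat.beq (app 4 16 P (app 4 16 Q i)) i) &&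
        anyL W fun w => force (prodP 4 16 16 (Q :: P :: Kl) w) fun R =>
          (Nat.beq (app 4 16 R 15) 15 && !kOK R) || Nat.beq R t))

theorem chk3 : linChk 3 [[1, 5, 0], [0, 0], [0, 3, 0], [0, 4, 0], [0, 6, 0], [0, 7, 0], [0, 10, 0], [0, 5, 1, 10, 0],
    [0, 10, 1, 10, 0], [0, 3, 1, 3, 0, 4, 1], [0, 3, 1, 9, 0, 4, 1]] 0 = true := by decide +kernel

theorem chk8 : linChk 8 [[1, 6, 0], [1, 5, 0], [1, 10, 0], [1, 13, 0], [0, 5, 1, 3, 0], [0, 5, 1, 4, 0],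
    [0, 5, 1, 7, 0], [0], [0, 3], [0, 4], [0, 5], [0, 6], [0, 7], [0, 8], [0, 9], [0, 10], [0, 11], [0, 12],
    [0, 13]] nb = true := by decide +kernel

variable {G : Type*} [Group G] {C : Code 6 64 40 cML G} {a b c d j h v w : G}

/-- the standing hypotheses: `C` models the centraliser of `j` -/
structure Ctx (C : Code 6 64 40 cML G) (a b c d j h v w : G) : Prop where
  H : List.Forall₂ C.R consts [a, b, c, d, j, h, v, w]
  hS : ∀ x, x * j = j * x → x ∈ C.S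
  hS' : ∀ x ∈ C.S, x * j = j * x

/-- the elements of `E` -/
def ee (a b c d : G) (i : ℕ) : G := (tE i).ev [a, b, c, d]

local notation "e" => ee a b c d

theorem ev8 {i : ℕ} (hi : i < 16) : (tE i).ev [a, b, c, d, j, h, v, w] = e i := by
  interval_cases i <;> rfl

namespace Ctx

variable (X : Ctx C a b c d j h v w)
include X

theorem e_mul : ∀ i < 16, ∀ k < 16, e i * e k = e (Nat.xor i k) := fun i hi k hk => by
  rw [← ev8 hi, ← ev8 hk, ← ev8 (xor_lt16 hi hk)]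
  exact (C.qf_iff X.H _).1 (allN_iff.1 (allN_iff.1 ok_mul i hi) k hk)

theorem e_inj {i k : ℕ} (hi : i < 16) (hk : k < 16) (he : e i = e k) : i = k :=
  beq_iff.1 (bimp_iff.1 (allN_iff.1 (allN_iff.1 ok_inj i hi) k hk) ((C.qf_iff X.H _).2
    ((ev8 hi).trans (he.trans (ev8 hk).symm))))

theorem e_15 : e 15 = j := (rel X.H).2.2.2.2.2.2.2.2.2.2

theorem e_comm {i k : ℕ} (hi : i < 16) (hk : k < 16) : e i * e k = e k * e i := by
  rw [X.e_mul i hi k hk, X.e_mul k hk i hi]; exact congrArg _ (Nat.xor_comm i k)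

theorem e_sq {i : ℕ} (hi : i < 16) : e i * e i = 1 := by
  rw [X.e_mul i hi i hi]; exact congrArg _ (Nat.xor_self i)

theorem e_ne {i k : ℕ} (hi : i < 16) (hk : k < 16) (hik : i ≠ k) : e i ≠ e k := fun h => hik (X.e_inj hi hk h)

theorem rc_K : ∀ P ∈ Kl, Rc e P := by
  intro P hP
  rw [← Kl_eq] at hP
  obtain ⟨p, hp, rfl⟩ := List.mem_map.1 hP
  exact ⟨p.2.ev [a, b, c, d, j, h, v, w], fun i hi => by
    rw [← ev8 hi, ← ev8 (app_lt16 _ _)]
    exact (C.qf_iff X.H _).1 (allN_iff.1 (allL_iff.1 ok_KT p hp) i hi)⟩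

theorem mem_E {m : G} (hj : m * j = j * m) (m2 : m * m = 1) (hd : m * d = d * m) : ∃ i < 16, m = e i := by
  rcases cd X.H m (X.hS m hj) m2 hd with h | h | h | h | h | h | h | h | h | h | h | h | h | h | h | h
  · exact ⟨0, by decide, h⟩
  · exact ⟨1, by decide, h⟩
  · exact ⟨2, by decide, h⟩
  · exact ⟨3, by decide, h⟩
  · exact ⟨4, by decide, h⟩
  · exact ⟨5, by decide, h⟩
  · exact ⟨6, by decide, h⟩
  · exact ⟨7, by decide, h⟩
  · exact ⟨8, by decide, h⟩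
  · exact ⟨9, by decide, h⟩
  · exact ⟨10, by decide, h⟩
  · exact ⟨11, by decide, h⟩
  · exact ⟨12, by decide, h⟩
  · exact ⟨13, by decide, h⟩
  · exact ⟨14, by decide, h⟩
  · exact ⟨15, by decide, h⟩

theorem rc_stab {P : ℕ} (hP : Rc e P) (h15 : app 4 16 P 15 = 15) : kOK P = true := by
  obtain ⟨g, hg⟩ := hP
  have hj : g * j = j * g := by
    have := hg 15 (by decide)
    rwa [h15, X.e_15, mul_inv_eq_iff_eq_mul] at this
  have h1 : g * a * g⁻¹ = _ := hg 1 (by decide)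
  have h2 : g * b * g⁻¹ = _ := hg 2 (by decide)
  have h4 : g * c * g⁻¹ = _ := hg 4 (by decide)
  have h8 : g * d * g⁻¹ = _ := hg 8 (by decide)
  have key : ∀ k ∈ Kl, g * a * g⁻¹ = e (app 4 16 k 1) → g * b * g⁻¹ = e (app 4 16 k 2) →
      g * c * g⁻¹ = e (app 4 16 k 4) → g * d * g⁻¹ = e (app 4 16 k 8) → kOK P = true := by
    intro k hk k1 k2 k4 k8
    refine anyL_iff.2 ⟨k, hk, ?_⟩
    simp only [Bool.and_eq_true, beq_iff]
    exact ⟨⟨⟨X.e_inj (app_lt16 _ _) (app_lt16 _ _) (h1.symm.trans k1),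
      X.e_inj (app_lt16 _ _) (app_lt16 _ _) (h2.symm.trans k2)⟩,
      X.e_inj (app_lt16 _ _) (app_lt16 _ _) (h4.symm.trans k4)⟩,
      X.e_inj (app_lt16 _ _) (app_lt16 _ _) (h8.symm.trans k8)⟩
  have := stab X.H g (X.hS g hj) (by rw [h8]; exact X.e_comm (app_lt16 _ _) (k := 8) (by decide))
  rcases this with ⟨k1, k2, k4, k8⟩ | ⟨k1, k2, k4, k8⟩ | ⟨k1, k2, k4, k8⟩ | ⟨k1, k2, k4, k8⟩ | ⟨k1, k2, k4, k8⟩ | ⟨k1, k2, k4, k8⟩ | ⟨k1, k2, k4, k8⟩ | ⟨k1, k2, k4, k8⟩ | ⟨k1, k2, k4, k8⟩ | ⟨k1, k2, k4, k8⟩ | ⟨k1, k2, k4, k8⟩ | ⟨k1, k2, k4, k8⟩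
  · exact key (Kl.getD 0 0) (by decide) k1 k2 k4 k8
  · exact key (Kl.getD 1 0) (by decide) k1 k2 k4 k8
  · exact key (Kl.getD 2 0) (by decide) k1 k2 k4 k8
  · exact key (Kl.getD 3 0) (by decide) k1 k2 k4 k8
  · exact key (Kl.getD 4 0) (by decide) k1 k2 k4 k8
  · exact key (Kl.getD 5 0) (by decide) k1 k2 k4 k8
  · exact key (Kl.getD 6 0) (by decide) k1 k2 k4 k8
  · exact key (Kl.getD 7 0) (by decide) k1 k2 k4 k8
  · exact key (Kl.getD 8 0) (by decide) k1 k2 k4 k8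
  · exact key (Kl.getD 9 0) (by decide) k1 k2 k4 k8
  · exact key (Kl.getD 10 0) (by decide) k1 k2 k4 k8
  · exact key (Kl.getD 11 0) (by decide) k1 k2 k4 k8

theorem rc_of_chk {x t : ℕ} {W : List (List ℕ)} (hc : linChk x W t = true) (hx : x < 16) {g : G}
    (hg : ∀ i ∈ [1, 2, 4, 8], ∃ k < 16, g * e i * g⁻¹ = e k) (hj : g * e x * g⁻¹ = j) : Rc e t := by
  obtain ⟨a', ha, h1⟩ := hg 1 (by decide)
  obtain ⟨b', hb, h2⟩ := hg 2 (by decide)
  obtain ⟨c', hc', h4⟩ := hg 4 (by decide)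
  obtain ⟨d', hd, h8⟩ := hg 8 (by decide)
  have hl := conj_lin rfl X.e_mul ha hb hc' hd h1 h2 h4 h8
  have h15 : linF a' b' c' d' x = 15 := by
    rw [← app_linC ha hb hc' hd hx]
    exact X.e_inj (app_lt16 _ _) (by decide) (by rw [← hl x hx, X.e_15, hj])
  have h3 := bimp_iff.1 (allN_iff.1 (allN_iff.1 (allN_iff.1 (allN_iff.1 hc a' ha) b' hb) c' hc') d' hd)
    (beq_iff.2 h15)
  rw [force_eq] at h3
  have h5 := bimp_iff.1 h3 (allN_iff.2 fun i hi => ble_iff.2 (Nat.pos_of_ne_zero fun h0 => by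
    have := hl (Nat.succ i) (by omega)
    rw [h0] at this
    have h6 : e (Nat.succ i) = e 0 := by
      have h7 : g * e (Nat.succ i) * g⁻¹ = 1 := this
      show _ = 1
      simpa using h7
    exact absurd (X.e_inj (by omega) (by decide) h6) (by omega)))
  rw [force_eq, Bool.and_eq_true, allN_iff, anyL_iff] at h5
  obtain ⟨h6, w', -, h7⟩ := h5
  have hP : Rc e (linC a' b' c' d') := ⟨g, hl⟩
  have hR : Rc e (prodP 4 16 16 (inv 4 16 16 (linC a' b' c' d') :: linC a' b' c' d' :: Kl) w') :=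
    Rc.word (List.forall_mem_cons.2 ⟨hP.inv fun i hi => beq_iff.1 (h6 i hi), List.forall_mem_cons.2 ⟨hP, X.rc_K⟩⟩) _
  rw [force_eq, Bool.or_eq_true, Bool.and_eq_true, beq_iff, beq_iff] at h7
  rcases h7 with ⟨h7, h9⟩ | h7
  · rw [X.rc_stab hR h7] at h9; exact absurd h9 (by decide)
  · exact h7 ▸ hR

/-- `N(E)` controls the fusion of `j` in `E` -/
theorem fusion {x y1 y2 y3 : ℕ} (hx : x < 16) (h1 : y1 < 16) (h2 : y2 < 16) (h3 : y3 < 16)
    (hi : (y1 ≠ 0 ∧ y1 ≠ x) ∧ (y2 ≠ 0 ∧ y2 ≠ x ∧ y2 ≠ y1 ∧ y2 ≠ Nat.xor x y1) ∧ y3 ≠ 0 ∧ y3 ≠ x ∧ y3 ≠ y1 ∧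
      y3 ≠ Nat.xor x y1 ∧ y3 ≠ y2 ∧ y3 ≠ Nat.xor x y2 ∧ y3 ≠ Nat.xor y1 y2 ∧ y3 ≠ Nat.xor (Nat.xor x y1) y2)
    (hc : IsConj j (e x)) :
    ∃ g : G, g * e x * g⁻¹ = j ∧ ∀ i ∈ [y1, y2, y3], ∃ k < 16, g * e i * g⁻¹ = e k := by
  obtain ⟨g, hg⟩ := isConj_iff.1 hc.symm
  let φ := MulAut.conj g
  have hφ : ∀ y, φ y = g * y * g⁻¹ := fun _ => rfl
  have hj : φ (e x) = j := hg
  have cm : ∀ {i k : ℕ}, i < 16 → k < 16 → φ (e i) * φ (e k) = φ (e k) * φ (e i) := fun hi hk => by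
    rw [← map_mul, X.e_comm hi hk, map_mul]
  have sq : ∀ {i : ℕ}, i < 16 → φ (e i) * φ (e i) = 1 := fun hi => by rw [← map_mul, X.e_sq hi, map_one]
  have cj : ∀ {i : ℕ}, i < 16 → φ (e i) * j = j * φ (e i) := fun hi => hj ▸ cm hi hx
  have il : ∀ {i : ℕ}, i < 16 → ∃ P ∈ invs, C.R P (φ (e i)) := fun hi => invl X.H _ (X.hS _ (cj hi)) (sq hi)
  have ne : ∀ {i k : ℕ}, i < 16 → k < 16 → i ≠ k → φ (e i) ≠ φ (e k) := fun hi hk hik h =>
    hik (X.e_inj hi hk (φ.injective h))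
  have ml : ∀ {i k : ℕ}, i < 16 → k < 16 → φ (e i) * φ (e k) = φ (e (Nat.xor i k)) := fun hi hk => by
    rw [← map_mul, X.e_mul _ hi _ hk]
  have one : φ (e 0) = 1 := map_one φ
  obtain ⟨⟨a1, a2⟩, ⟨b1, b2, b3, b4⟩, c1, c2, c3, c4, c5, c6, c7, c8⟩ := hi
  obtain ⟨k, hk, k1, k2, k3⟩ := cf X.H _ (il h1) ⟨one ▸ ne h1 (by decide) a1, hj ▸ ne h1 hx a2⟩ _ (il h2) (cm h1 h2)
    ⟨one ▸ ne h2 (by decide) b1, hj ▸ ne h2 hx b2, ne h2 h1 b3, by
      rw [← hj, ml hx h1]; exact ne h2 (xor_lt16 hx h1) b4⟩ _ (il h3)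
    ⟨one ▸ ne h3 (by decide) c1, hj ▸ ne h3 hx c2, ne h3 h1 c3, by
      rw [← hj, ml hx h1]; exact ne h3 (xor_lt16 hx h1) c4, ne h3 h2 c5, by
      rw [← hj, ml hx h2]; exact ne h3 (xor_lt16 hx h2) c6, by
      rw [ml h1 h2]; exact ne h3 (xor_lt16 h1 h2) c7, by
      rw [← hj, ml hx h1, ml (xor_lt16 hx h1) h2]; exact ne h3 (xor_lt16 (xor_lt16 hx h1) h2) c8⟩
    (cm h1 h3) (cm h2 h3)
  have hkj : k * j = j * k := X.hS' k hk
  have fin : ∀ {i : ℕ}, i < 16 → k * φ (e i) * k⁻¹ * d = d * (k * φ (e i) * k⁻¹) →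
      ∃ l < 16, k * g * e i * (k * g)⁻¹ = e l := by
    intro i hi hd
    obtain ⟨l, hl, h⟩ := X.mem_E (m := k * φ (e i) * k⁻¹) (by
      have : Commute k j := hkj
      exact ((this.mul_left (cj hi)).mul_left this.inv_left).eq) (by
      calc _ = k * (φ (e i) * φ (e i)) * k⁻¹ := by group
        _ = 1 := by rw [sq hi]; group) hd
    exact ⟨l, hl, by rw [← h, hφ]; group⟩
  refine ⟨k * g, ?_, ?_⟩
  · calc k * g * e x * (k * g)⁻¹ = k * (g * e x * g⁻¹) * k⁻¹ := by group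
      _ = j := by rw [hg, hkj]; group
  · simp only [List.forall_mem_cons, List.not_mem_nil, false_imp_iff, implies_true, and_true]
    exact ⟨fin h1 k1, fin h2 k2, fin h3 k3⟩

theorem conj_mul {g : G} {i k : ℕ} (hi : i < 16) (hk : k < 16) (h1 : ∃ l < 16, g * e i * g⁻¹ = e l)
    (h2 : ∃ l < 16, g * e k * g⁻¹ = e l) : ∃ l < 16, g * e (Nat.xor i k) * g⁻¹ = e l := by
  obtain ⟨l, hl, h1⟩ := h1
  obtain ⟨m, hm, h2⟩ := h2
  exact ⟨_, xor_lt16 hl hm, by rw [← X.e_mul i hi k hk, ← X.e_mul l hl m hm, ← h1, ← h2]; group⟩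

theorem not_conj_t : ¬ IsConj j (a * b) := by
  intro hc
  obtain ⟨g, hg, h1⟩ := X.fusion (x := 3) (y1 := 1) (y2 := 4) (y3 := 8) (by decide) (by decide) (by decide)
    (by decide) (by decide) hc
  have h2 := X.rc_of_chk chk3 (by decide) (g := g) (by
    simp only [List.forall_mem_cons, List.not_mem_nil, false_imp_iff, implies_true, and_true] at h1 ⊢
    exact ⟨h1.1, X.conj_mul (i := 3) (k := 1) (by decide) (by decide) ⟨15, by decide, hg.trans X.e_15.symm⟩ h1.1,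
      h1.2⟩) hg
  obtain ⟨k, hk⟩ := h2
  have h3 : k * e 1 * k⁻¹ = 1 := hk 1 (by decide)
  exact X.e_ne (i := 1) (k := 0) (by decide) (by decide) (by decide) (show _ = 1 by simpa using h3)

theorem rc_nb (hc : IsConj j d) : Rc e nb := by
  obtain ⟨g, hg, h1⟩ := X.fusion (x := 8) (y1 := 1) (y2 := 2) (y3 := 4) (by decide) (by decide) (by decide)
    (by decide) (by decide) hc
  exact X.rc_of_chk chk8 (by decide) (g := g) (by
    simp only [List.forall_mem_cons, List.not_mem_nil, false_imp_iff, implies_true, and_true] at h1 ⊢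
    exact ⟨h1.1, h1.2.1, h1.2.2, 15, by decide, hg.trans X.e_15.symm⟩) hg

end Ctx

end P4

end Cfsg.Agent.OR
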