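import Cfsg.Agent.OR.DB
import Cfsg.Agent.OR.Pres
import Cfsg.Agent.H60.Cert.U43G
import Cfsg.Agent.H15.LF.U43

/-! The group generated by the centralizer of order 1152 and the two elements of order three. -/

set_option autoImplicit false

namespace Cfsg.Agent.ORD

open Cfsg.Agent.H58 Cfsg.Agent.H14 Cfsg.Agent.H78 Cfsg.Agent.H60 Subgroup

variable {G : Type*} [Group G]

/-- the letters in the permutation model of `PSU(4,3)` -/
def bigL : List ℕ := [nat_lit 0x8bc5a2b1489c4a231087c3a1b0c85c2a130883c1a0b0481c0a03007fbf9fafc7dbe9f2f87bbd9eaf479bc9e2f077bb9daec75ba9d2e873b99cae471b89c2e06fb79badc6db69b2d86bb59aad469b49a2d067b399acc65b2992c863b198ac461b0982c05faf97abc5dae972b85bad96ab459ac962b057ab95aac55aa952a853a994aa451a8942a04fa793a9c4da6932984ba592a9449a49229047a391a8c45a29128843a190a8441a0902803f9f8fa7c3d9e8f2783b9d8ea74399c8e270379b8da6c359a8d26833998ca6431988c2602f978ba5c2d968b2582b958aa5429948a250279389a4c259289248239188a442190882401f8f87a3c1d8e872381b8d86a34198c86230178b85a2c158a85228138984a241188842200f8783a1c0d86832180b8582a14098482210078381a0c058281208038180a04018080200,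
  nat_lit 0x7129d46e41144984d20a04e02f02c8254c2e83820c0df52a192ae575b620aad853e9b2d07bbd9fe5e79ad00e49779e5daa87a805d21546b984c533d12cce61462743ca287ae510336bb5934d4288ec9a0b349f99acc4c0343ec816b183aac61910187317b71e4b620ae1421a1511c9cbd78b2908822abd0a437580fcde721f0e4843d10af9b4b17744c069c2b958d674703161aa949859d42b2e168910445b3d80f91181136a03b2ac86632c1ed1caf670a13e99419dceacb44bb094704a048da8f3c1a914201d2dcca5b2faed2efd402b8ba6c0c1f4a03442b54f8d38a3f0a90b830180a4c8b86618e75e2048b112340cc487014582edd8838612386231d927f7f0c86230050006cc11219852e313c004a902027a2a0f1a8f12d0e372e8e264520441cdb0e06d2410343a1642c7c2fdf64f59ad5a3026f2a92308,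
  nat_lit 0x258f842534f448883b6d8712a49283ec72008393dfa8c210121a267a8ccc05204be9100b7bbd9d6ae79af5670c77a7dda727fa45d20e2439a01141445c74978200c78be0a285f2fe6bb58acd42a4400af8451ed9acc3a2c86ac81b3192c3761c44588905289684731069b4ba332f00cf20383540ab3e179f8c44100928ec8b42606178ab7172843c889bc9c42b54f0cb30876026f498440224361f5cedf459a4e6d920408aeb13bac08c5f1a338b4553f38ddc6b3b20cea98602a032705486cda5c4c9a99e0f708a8ca1840105c10531bd0ba8f3223a167f4da695e51722b5a659042d5a24c711c5e08d5b10c8ac240a9576235529d481e6919d4c38560b43e586c0c862305fc218e0c482dc527a13b944a2b43c4d466864b758a13092e0945b1ea49d10f871b82c101005594c1680be1506789389a864e8fdd42e,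
  nat_lit 0x3621c6507349019a9d4904e024c6c3d9a6bb4f8488e153a875e8e55b9c10a8c801f17d0e57098345e3422c1449141e438a5272652b027cc4412533d161fafa1a32c941e4d28432337f358e8d416059cced753cda2a73b0fd808941338a41717110027382821e05720ad5383d16bc556bd30328762a2aba50cba560c566298918c84ff10969b40308424acb90c2c5010f57c11eebf49a1044ef4b364dd17860e44e3c11b88de98503d546cf741edba38100adc80c8804550d21abb1445970b70dafc89b40a2c603b1154a960b0d2e642a4362a045b121aead179dcc29177038d70b470d80af26286d68714a206144d2e9c800cc0145961066daf0f0e0758dd925c2810c1a621d0c1489e122e206250f91520e31f17c8c0f64234fe6a3eb1c9e67033551e8305a21bd143f12cca8a7c16df6e74d99984df0a2c94d08,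
  nat_lit 0x460f8ba1035a9dcc774c3e0bc8b281153c008a0f17e9614ba21afb5235dc26c04b81ce0b4ac290501671316cbd4814da0721bb3d5c7f04346007912218de3802044fa6e1da851d0b2cb582cd4849d19a6a4031a22406f2c86a1f0d1a0966631014c6c94a3e5683a842b1382a7f96d744954809343d4bbdcb0ab5a994c87566005d82d409c5b483838b220b903b6dd48430a3dd24749c3ca8250a93c3cfc7903190128b2b5fa920a31c8c990e83c36fa3f38ddc392b32e06d56010890fe42a34db172887226f30c0181a60530c0aab3113d0863405288e0e25e2755e5f72314d2330cbac890c07375e05a828844cc21929577126508d7088588bd147c1b138e6df6c455542e2bb0d6ed33d2c150ef44bd8502b43a45467b13b7204ed253d5b29b6234a080387418ec9f10148627809bc5cabe3385c9a5c500fd8241,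
  nat_lit 0x5b094e503491c0606b0d808430c74b91d41c2026560f98a2e8f4a36f0a5960a1583e081319940dc8179bc9d0891189888281ec2616f143335c70a7280534bd6abfd0860521b4744566285beb951171864144131ccd77e82cc2200f318a478688c52cc00c161c03955409a89458c5d181f488fd6f053994cc66c3faed1a9f0805486db8034dac8354120fa931bb860c514bb04f2b84e44d66420405d52b534019e0cf2eb9c76dd50151e82c5589d3a491c4052ac4250b4b23457c54791208bd5b4ac88014ac8b270649a5f568b992dc320910ed20e848eabe279a4aa825731530f62b99ccace071dcf89e03825b0ed52a41a107590c9d67142b65787b4d8a86a747b8f9851106188ec807d8d9fcec3f3ba2c5e7786a1ac85a31cb70887888ccbf470114c037c168dea77d12c002f653f08c8f23a28d4160a439c40d,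
  nat_lit 0xdbd8a69f4644898ba051861a2e2e9087a892cae1326f819a601014b0411edd7d93596c043c585ef4731893ad0282404026400d87c4a1dbcdca2815a910cbb02299f8d931b59b82538368e8b94d85916f04a30d8ccc7cb2594055e334281a670e0ecf82d2681ac770441a90656a11301c0ba5c028805a956e922b12474a83ab795ce212138da0e8a19de29369afa0ab5593fce4cf4e2b032ee7e97c9f136888a10b07bb84b0b62901842eb359a83a003291886542db054ed5012548ed7820e542513f9fa04304f190f6666dbca1c574702616343bafe0e85302ac7e788aa0cd8ef46a89f51101ba15437389e846273cc283e292aba6121873aa4dcc2243a8265c190cc1e687ac302a2a718b080e4223b1b0a322a2902ed20830fab48bb11223c59b485ac51a81c10fe18a817a1e57c3cbc110920990df259cd627c,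
  nat_lit 0x390ec5b031f448e6be4b1a07262563a212c8032ec62514fc5a03000515def1547221246d5a9a502bc668b9489e4d0743ee21b20118b17b24c2e5b0ca74feb80145c2a4072154a86b660d416f276b295e2700349387085b382c4e7a398a4a9649f0f2b20c1420ac73dbbe18657710dfa4872a86144d3a43cfacb11be94ea862255fe262301580838a111d8f320ae81a877c2b836c26317456ad4c17e0e116a98144aa47b6156c10a164182c128dd20948309108dc142d874d10237878d719c352e6f432d1ce5c68245c0e33bae468107d9e9f30e6d9c49e451116026296e83865104142092df25909606a5f824acf03b00440786b0207a5a81068dccf0e0a87e30364117a610f351f8ea333adb26333bc5c25e42bf85e9b698856e7e531d4c84759b0ca6a06d049d28a4cb141ef545a95471303a351311019309438,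
  nat_lit 0x6f409f89f04448085057170dcb965ac6124e469ed7a328a0ee0300528896a2d2faa8ba977eb9c18c74e3504c445d2dda69d150b0230a34b1966db323b04a65261c8a6782d84c5286380fd162e0fb38e8671c329e6d75634987085e24c1ca70b25108a123c4062f483268c4e00e9d9ee6a0bb01d04968a59210b42a2188a85486c14f104a25641481bc1c4cd103bc1e8f36c3d4c7c733e4cc7d43bec0ce9058400afa4c1ac46795013deaea708715ac25d97982403190c34af88c5cb4cc360e5f0336c121ed0e138ad701914430608a470912468720f104567f115b4d90ab1608be2cb216002258049ab40c28cb09e5b12936dc1ac4c7a718b1d61a003f3adac61379460a3410bca2a80488d8a87768290fe7a5595c3c41768bddc374a8e9c6bf72b25ba832a84918600694932816abfc8c3e03c1d447301b7c84cf,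
  nat_lit 0x589987cd45a35c58493f184570c52a44e2988026564ba4fbe540c526825560110bc4009e372cc66e3668b85a3b76459c45f671a0720f89bcd02f65082a107f1a129b6d902bed1a424e3942ca85134854be1f861cc707032405171931a0ec40916cfa9b26231fb0b3483606945b080b0e77222190cf57bd61e855e9bc7514418757884200d5e8105c9392d121b944aae15c0e05e9766218a04588361b8d08495159050607d126a3d019ac3065ab4f66b60a9d0e787fba096d539b1d16932b14e1af004290223c243b9bc2813bc816a9778392a5c0ab44bc412baaa0c227ba8c390a27be0ee3d121951e13888a42efc74a396a52580797eea36180869d6030da604571c94c072e989f4473696806230d8644c7532229b4b749454629a31a084aeb481d184fe338d977013b1660879873b4287c40069badf233288902,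
  nat_lit 0x643b83ca873a708e8f5682cdb0c5e14116e162955100d5c80021073b8517a446d0b6044e29b915ca173189f46c2f99814ef0c0f086765a335acb37a3b530cb021940a8d6e885b88e89204e9141ab48b48c583ade6933f80994b13931a00c41b054f6371eb4156a508c113e97102dc83137b4162e3f578ccfc897e958c0d43d0c6166a2934dc70181be070d7600720d084a274bab83807e141724909b2be388890ab23ca4958a453869ca077043d82083ea0c18782683c4816398ca12cc553dc563b3e21176ea09c5894230d8ba1c3a761645e5c610a81cb52b9bd328a37101349127a79febf3ab7a20671600d20011cb60b0a367c549868782a5d2964d84944df7ab1c3a804abc9e31186b448c6431894324b14151f6b6430f94c51138184cce22b54b6092430cd2a074179748730b89fc6b18209b63414b25f8f9]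

theorem bigL_ok : pkOK 9 512 280 bigL U43G.rels U43H.iv = true := by decide +kernel

theorem bigL_valid : allL bigL (valid 9 512 280) = true := by decide +kernel

theorem bigL_ws : OR.wsOK 9 512 280 H15.LF.U43.gens bigL [1, 3, 5, 6, 7, 9]
    [[1, 1, 3, 3, 3, 9, 9, 3, 1, 9, 5, 1, 1, 7], [7, 7, 9, 7, 1, 9, 9, 5, 3]] = true := by
  decide +kernel

theorem exists_hom_U43 {e : ℕ → G} (R : RuleOK e U43G.rels U43H.iv) :
    ∃ φ : H15.LF.U43.K →* G, ∀ n ∈ ([1, 3, 5, 6, 7, 9] : List ℕ), e n ∈ φ.range := by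
  have R2 := ruleOK_prod (ruleOK_pk H15.LF.U43.E bigL_ok) R
  have R3 := OR.ruleOK_sub (rels' := U43H.rels) R2 (by decide) (by decide)
  have h1 := card_le_of_relIndex_bot (U43H.relIndex_le R3 ⊥ (by simp))
  have hD := card_le_of_relIndex (U43G.relIndex_le R2 (Subgroup.closure
    ((fun i => (elP H15.LF.U43.E bigL i, e i)) '' {x | x ∈ ([1, 3, 5, 6] : List ℕ)}))
    (fun n hn => Subgroup.subset_closure ⟨n, hn, rfl⟩)) h1
  obtain ⟨φ, h2, -⟩ := OR.exists_hom_of_card H15.LF.U43.E bigL_valid hD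
    (by rw [H15.LF.U43.card]) _ bigL_ws
  exact ⟨φ, fun n hn => by obtain ⟨g, -, hg⟩ := h2 n hn; exact ⟨g, hg⟩⟩

theorem nine {p q w s a b : G} (pq : p * q = q * p) (p3 : p * (p * p) = 1) (h1 : s * p * s⁻¹ = q)
    (h2 : s * q * s⁻¹ = p) (h3 : s * w * s⁻¹ = w) (w1 : w ≠ 1) (ne : p ≠ q)
    (ha : a = 1 ∨ a = p ∨ a = p⁻¹) (hb : b = 1 ∨ b = q ∨ b = q⁻¹) (hw : w = a * b) :
    w = p * q ∨ w = (p * q)⁻¹ := by
  have q3 : q * (q * q) = 1 := by rw [← h1, conj_mul, conj_mul, p3]; group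
  have k : p * q⁻¹ ≠ q * p⁻¹ := fun e => ne (by
    have e1 : p * p = q * q := by
      calc _ = p * q⁻¹ * (q * p) := by group
        _ = _ := by rw [e, ← pq]; group
    rw [← inv_inj, inv_eq_of_mul_eq_one_right p3, inv_eq_of_mul_eq_one_right q3, e1])
  subst hw
  rcases ha with rfl | rfl | rfl <;> rcases hb with rfl | rfl | rfl
  · exact (w1 (one_mul 1)).elim
  · rw [one_mul, h2] at h3
    exact (ne h3).elim
  · rw [one_mul, ← conj_inv, h2, inv_inj] at h3
    exact (ne h3).elim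
  · rw [mul_one, h1] at h3
    exact (ne h3.symm).elim
  · exact Or.inl rfl
  · rw [← conj_mul, ← conj_inv, h1, h2] at h3
    exact (k h3.symm).elim
  · rw [mul_one, ← conj_inv, h1, inv_inj] at h3
    exact (ne h3.symm).elim
  · rw [← conj_mul, ← conj_inv, h1, h2, (Commute.inv_left pq.symm).eq,
      (Commute.inv_left pq).eq] at h3
    exact (k h3).elim
  · right
    rw [pq, mul_inv_rev]

theorem GC.conj_eq {x i t s c : G} (g : GC x i t s c) (ss : s * s = 1) : s * c * s⁻¹ = c⁻¹ := by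
  rw [inv_eq_of_mul_eq_one_right ss, eq_inv_iff_mul_eq_one, mul_assoc, g.sc]

theorem GC.inv_eq {x i t s c : G} (g : GC x i t s c) : c⁻¹ = c * c :=
  inv_eq_of_mul_eq_one_right g.c3

namespace Cen

variable {x i t s : G} (h : Cen x i t s)
include h

theorem f10' {u : G} (h1 : u * (i * i) = i * i * u) (h2 : u * yy x t = yy x t * u)
    (h3 : i * i * t * u * (i * i * t)⁻¹ = u⁻¹ ∨ t * u * t⁻¹ = u⁻¹) (h4 : u * (u * u) = 1) :
    u = 1 ∨ u = yy x s ∨ u = (yy x s)⁻¹ := by
  refine h.f10 h1 h2 ?_ (by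
    rw [show 9 = 3 * 3 from rfl, pow_mul, pow_three u, h4, one_pow])
  rcases h3 with h3 | h3
  · rw [← h.tz, mul_inv_rev, mul_assoc t, mul_assoc t, ← h1, ← mul_assoc _ _ t⁻¹,
      mul_inv_cancel_right, ← mul_assoc] at h3
    exact mul_inv_eq_iff_eq_mul.1 h3
  · exact mul_inv_eq_iff_eq_mul.1 h3

variable [Finite G]

theorem rl {c e : G} (g : GC x i t s c) (g' : GC x i s t e) :
    e * yy x t * e⁻¹ = c * yy x s * c⁻¹ * (c⁻¹ * yy x s * c) ∨
      e * yy x t * e⁻¹ = (c * yy x s * c⁻¹ * (c⁻¹ * yy x s * c))⁻¹ := by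
  obtain ⟨y2, y3, -, -, -, -, sy, -, ty, -, -, -, yz, -⟩ := h.basic
  obtain ⟨y2', y3', -, -, -, -, ty', -, sy', -, -, -, yz', -⟩ := h.swap.basic
  have k1 := h.comm_conj_y g g'
  have k2 := h.swap.comm_conj_y g' g
  have zi : (i * i)⁻¹ = i * i := inv_eq_of_mul_eq_one_right h.i4
  have c3 := g.cyc.third h.tt h.tz
  have e3 := g'.cyc.third h.ss h.sz
  have tz := h.tz
  have sz := h.sz
  have zz := h.i4
  have c1 := g.cyc.1
  have c2 := g.cyc.2
  have e1 := g'.cyc.1
  have e2 := g'.cyc.2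
  have cy := g.cy
  have sc := g.conj_eq h.ss
  have te := g'.conj_eq h.tt
  have ci := g.inv_eq
  have ei := g'.inv_eq
  have f := @h.f10'
  have ss := h.ss
  generalize yy x t = y at *
  generalize yy x s = y' at *
  generalize i * i = z at *
  have sy1 : s * y * s⁻¹ = y⁻¹ := mul_inv_eq_iff_eq_mul.2 sy
  -- the two conjugates of `y`
  obtain ⟨w, hw⟩ : ∃ w, w = e * y * e⁻¹ := ⟨_, rfl⟩
  obtain ⟨w', hw'⟩ : ∃ w, w = e⁻¹ * y * e := ⟨_, rfl⟩
  have a1 : y * w = w * y := by rw [hw]; exact k1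
  have a2 : y * w' = w' * y := by
    have := comm_conj e⁻¹ k1
    rw [hw']
    simpa only [inv_inv, mul_assoc, inv_mul_cancel_left, inv_mul_cancel, mul_one] using this.symm
  have a3 : w * w' = w' * w := by
    have := comm_conj e k1
    have e' : e * (e * y * e⁻¹) * e⁻¹ = w' := by
      rw [hw']
      calc _ = e * e * y * (e * e)⁻¹ := by group
        _ = _ := by rw [← ei, inv_inv]
    rwa [e', ← hw] at this
  have w3 : w * (w * w) = 1 := by rw [hw, conj_mul, conj_mul, y3]; group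
  have w3' : w' * (w' * w') = 1 := by
    calc _ = e⁻¹ * (y * (y * y)) * e := by rw [hw']; group
      _ = 1 := by rw [y3]; group
  have sw : s * w * s⁻¹ = w := by
    rw [hw, ← e1]; exact conj_eq_of_comm (comm_conj e yz.symm)
  have zw : z * w * z⁻¹ = w⁻¹ := by
    have : z * s * w * (z * s)⁻¹ = w⁻¹ := by
      rw [← e2, hw, conj_mul, conj_inv, conj_mul, conj_inv, sy1]
    rw [← this]
    conv_lhs => rw [← sw]
    group
  have zw' : z * w' * z⁻¹ = w'⁻¹ := by
    have : z = e⁻¹ * s * e := by rw [← e1]; group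
    rw [this, hw']
    calc _ = e⁻¹ * (s * y * s⁻¹) * e := by group
      _ = _ := by rw [sy1]; group
  have tw : t * w * t⁻¹ = w' := by
    rw [hw, hw', ← conj_mul, ← conj_mul, ← conj_inv, te, conj_eq_of_comm ty, inv_inv]
  have tw' : t * w' * t⁻¹ = w := by
    rw [hw, hw', ← conj_mul, ← conj_mul, ← conj_inv, te, conj_eq_of_comm ty, inv_inv]
  have cube : ∀ a b : G, a * b = b * a → a * (a * a) = 1 → b * (b * b) = 1 →
      a * b * (a * b * (a * b)) = 1 := fun a b hc ha hb => by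
    rw [← pow_three, (show Commute a b from hc).mul_pow, pow_three, pow_three, ha, hb, one_mul]
  have cc : ∀ a b : G, a * (a * a) = 1 → b * a * b⁻¹ * (b * a * b⁻¹ * (b * a * b⁻¹)) = 1 :=
    fun a b ha => by rw [conj_mul, conj_mul, ha]; group
  have cj : ∀ a b d : G, a * b * a⁻¹ = b⁻¹ →
      d * a * d⁻¹ * (d * b * d⁻¹) * (d * a * d⁻¹)⁻¹ = (d * b * d⁻¹)⁻¹ := fun a b d e => by
    rw [conj_mul, conj_inv, conj_mul, conj_inv, e]
  have ci1 : c⁻¹ * t * c⁻¹⁻¹ = z := by rw [← c1]; group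
  have ci2 : c⁻¹ * z * c⁻¹⁻¹ = z * t := by
    conv_lhs => rw [← c3]
    group
  have ciy : c⁻¹ * y * c⁻¹⁻¹ = y := conj_eq_of_comm (Commute.inv_left cy).eq
  have ha : w * w' = 1 ∨ w * w' = c * y' * c⁻¹ ∨ w * w' = (c * y' * c⁻¹)⁻¹ := by
    have b1 : w * w' * t = t * (w * w') :=
      (comm_of_conj_eq (by rw [← conj_mul, tw, tw', a3])).symm
    have b2 : z * (w * w') * z⁻¹ = (w * w')⁻¹ := by rw [← conj_mul, zw, zw', a3, mul_inv_rev]
    have p1 := comm_conj c⁻¹ b1
    have p2 := comm_conj c⁻¹ (Commute.mul_right a1 a2).eq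
    have p3 := cj _ _ c⁻¹ b2
    rw [ci1] at p1
    rw [ciy] at p2
    rw [ci2] at p3
    rcases f p1 p2.symm (Or.inl p3) (cc _ _ (cube _ _ a3 w3 w3')) with q | q | q
    · exact Or.inl (conj_eq_one_iff.1 q)
    · exact Or.inr (Or.inl (by rw [← q]; group))
    · exact Or.inr (Or.inr (by rw [conj_inv, ← q]; group))
  have hb : w * w'⁻¹ = 1 ∨ w * w'⁻¹ = c⁻¹ * y' * c ∨ w * w'⁻¹ = (c⁻¹ * y' * c)⁻¹ := by
    have a3' : w * w'⁻¹ = w'⁻¹ * w := (Commute.inv_right a3).eq
    have b1 : t * (w * w'⁻¹) * t⁻¹ = (w * w'⁻¹)⁻¹ := by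
      rw [← conj_mul, ← conj_inv, tw, tw', mul_inv_rev, inv_inv]
    have b2 : z * (w * w'⁻¹) * z⁻¹ = (w * w'⁻¹)⁻¹ := by
      rw [← conj_mul, ← conj_inv, zw, zw', a3', mul_inv_rev]
    have b3 : w * w'⁻¹ * (z * t) = z * t * (w * w'⁻¹) := (comm_of_conj_eq (by
      calc _ = z * (t * (w * w'⁻¹) * t⁻¹) * z⁻¹ := by group
        _ = _ := by rw [b1, ← conj_inv, b2, inv_inv])).symm
    have p1 := comm_conj c b3
    have p2 := comm_conj c (Commute.mul_right a1 (Commute.inv_right a2)).eq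
    have p3 := cj _ _ c b2
    rw [c3] at p1
    rw [conj_eq_of_comm cy] at p2
    rw [c1] at p3
    rcases f p1 p2.symm (Or.inr p3) (cc _ _ (cube _ _ a3' w3 (by
      rw [← mul_inv_rev, ← mul_inv_rev, mul_assoc, w3', inv_one]))) with q | q | q
    · exact Or.inl (conj_eq_one_iff.1 q)
    · exact Or.inr (Or.inl (by rw [← q]; group))
    · exact Or.inr (Or.inr (by rw [← inv_inv y', ← q]; group))
  have v1 : c * y' * c⁻¹ * (c⁻¹ * y' * c) = c⁻¹ * y' * c * (c * y' * c⁻¹) := by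
    have := comm_conj c k2
    have e' : c * (c * y' * c⁻¹) * c⁻¹ = c⁻¹ * y' * c := by
      calc _ = c * c * y' * (c * c)⁻¹ := by group
        _ = _ := by rw [← ci, inv_inv]
    rwa [e'] at this
  have v2 : c * y' * c⁻¹ ≠ c⁻¹ * y' * c := fun e' => y2' (by
    have b1 : c * y' = y' * c := by
      have : c * c * y' = y' * (c * c) := comm_of_conj_eq (by
        calc _ = c * (c * y' * c⁻¹) * c⁻¹ := by group
          _ = _ := by rw [e']; group)
      rw [← ci] at this
      simpa using (Commute.inv_left this).eq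
    have b2 := comm_conj c yz'
    rw [conj_eq_of_comm b1, c1, ty'] at b2
    exact mul_eq_one_iff_eq_inv.2 (mul_right_cancel b2))
  rw [← hw]
  have := nine (w := w⁻¹) (s := s) v1 (cc _ _ y3')
    (by rw [← conj_mul, ← conj_mul, ← conj_inv, sc, conj_eq_of_comm sy', inv_inv])
    (by rw [← conj_mul, ← conj_mul, ← conj_inv, sc, conj_eq_of_comm sy', inv_inv])
    (by rw [← conj_inv, sw])
    (fun e' => y2 (by rw [conj_eq_one_iff.1 (hw.symm.trans (inv_eq_one.1 e')), one_mul])) v2 ha hb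
    (by rw [inv_eq_of_mul_eq_one_right w3, a3, mul_assoc, ← mul_assoc w w, ← mul_assoc,
      (Commute.mul_right a3.symm a3.symm).eq, mul_inv_cancel_right])
  exact this.symm.imp inv_inj.1 inv_eq_iff_eq_inv.1

omit [Finite G] in
theorem GC_rels {c : G} (g : GC x i t s c) :
    c * (i * (i * (c⁻¹ * t))) = 1 ∧ c * (t * (c⁻¹ * (t * (i⁻¹ * i⁻¹)))) = 1 ∧
      c * (i * (t * (i * (t * (c⁻¹ * (t * (i⁻¹ * (t * i⁻¹)))))))) = 1 ∧
      c * (x * (t * (x * (t * (c⁻¹ * (t * (x⁻¹ * (t * x⁻¹)))))))) = 1 ∧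
      s * (c * (s * c)) = 1 := by
  have k : ∀ a, c * yy a t = yy a t * c →
      c * (a * (t * (a * (t * (c⁻¹ * (t * (a⁻¹ * (t * a⁻¹)))))))) = 1 := fun a e => by
    rw [← h.yy_inv]
    calc _ = c * yy a t * c⁻¹ * (yy a t)⁻¹ := by simp only [yy, mul_assoc]
      _ = 1 := by rw [conj_eq_of_comm e, mul_inv_cancel]
  refine ⟨?_, ?_, k _ g.cd, k _ g.cy, by rw [← mul_assoc, g.sc]⟩
  · calc _ = c * (i * i) * c⁻¹ * t := by simp only [mul_assoc]
      _ = 1 := by rw [g.cyc.1, h.tt]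
  · calc _ = c * t * c⁻¹ * t * (i * i)⁻¹ := by simp only [mul_assoc, mul_inv_rev]
      _ = 1 := by rw [g.cyc.2, mul_assoc _ t t, h.tt, mul_one, mul_inv_cancel]

omit [Finite G] in
theorem ruleOK_big {c e : G} (g : GC x i t s c) (g' : GC x i s t e)
    (r : e * yy x t * e⁻¹ = c * yy x s * c⁻¹ * (c⁻¹ * yy x s * c)) :
    RuleOK (el x i t s c e) U43G.rels U43H.iv := by
  refine (h.ruleOK c e).append (U43G.rels.drop 12) ?_ (by decide)
  obtain ⟨a1, a2, a3, a4, a5⟩ := h.GC_rels g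
  obtain ⟨b1, b2, b3, b4, b5⟩ := h.swap.GC_rels g'
  simp only [U43G.rels, List.drop, List.forall_mem_cons, List.not_mem_nil, false_imp_iff,
    implies_true, and_true, List.map_cons, List.map_nil, List.prod_cons, List.prod_nil, mul_one,
    wv, el1, el2, el3, el4, el5, el6, el7, el8, el9, el10]
  refine ⟨g.c3, a1, a2, a3, a4, a5, g'.c3, b1, b2, b3, b4, b5, ?_⟩
  calc _ = e * yy x t * e⁻¹ * (c⁻¹ * (yy x s)⁻¹ * c * (c * (yy x s)⁻¹ * c⁻¹)) := by
        rw [h.swap.yy_inv]; simp only [yy, mul_assoc]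
    _ = 1 := by rw [r]; group

omit [Finite G] in
theorem conj_d {e : G} (g' : GC x i s t e) :
    e * i * e * (i * i) * (e * i * e)⁻¹ = yy i t := by
  have k := h.closed (A := [[(true, [3, 5, 3, 5], [3, 3, 3, 6, 3, 6]),
    (true, [3, 6, 4], [6, 3, 3, 3, 6, 3, 6])]]) (by decide +kernel)
  simp only [semD, semC, semL, wv_cons, wv_nil, el3, el4, el5, el6, and_true, or_false,
    mul_one] at k
  have k1 : yy i t = i * i * yy i s := by simpa only [yy, mul_assoc] using k.1
  have k2 : i * s * i⁻¹ = s * (i * i * yy i s) := by simpa only [yy, mul_assoc] using k.2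
  calc _ = e * (i * (e * (i * i) * e⁻¹) * i⁻¹) * e⁻¹ := by group
    _ = _ := by
      rw [g'.cyc.1, k2, ← conj_mul, ← conj_mul, g'.cyc.1, g'.cyc.2, conj_eq_of_comm g'.cd, k1,
        mul_assoc _ s, h.ss']

theorem main (h1 : IsConj (i * i) t) (h2 : IsConj (i * i) s) :
    Nonempty (G ≃* H15.LF.U43.K) ∧ Nat.card G = 3265920 ∧
      ∀ u : G, u * u = 1 → u ≠ 1 → IsConj (i * i) u := by
  obtain ⟨c, g⟩ := h.exists_GC h1
  obtain ⟨e, g', r⟩ : ∃ e, GC x i s t e ∧
      e * yy x t * e⁻¹ = c * yy x s * c⁻¹ * (c⁻¹ * yy x s * c) := by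
    obtain ⟨e, g'⟩ := h.swap.exists_GC h2
    rcases h.rl g g' with r | r
    · exact ⟨e, g', r⟩
    · refine ⟨e * s, h.swap.GC_mul g', ?_⟩
      calc _ = e * (s * yy x t * s⁻¹) * e⁻¹ := by group
        _ = _ := by rw [h.basic.2.2.2.2.2.2.1, mul_inv_cancel_right, ← conj_inv, r, inv_inv]
  obtain ⟨φ, hφ⟩ := exists_hom_U43 (h.ruleOK_big g g' r)
  simp only [List.forall_mem_cons, List.not_mem_nil, false_imp_iff, implies_true, and_true, el1,
    el3, el5, el6, el7, el9] at hφ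
  obtain ⟨mx, mi, mt, ms, mc, me⟩ := hφ
  have hC : ∀ a, a * (i * i) = i * i * a → a ∈ φ.range := fun a ha => by
    have := mem_centralizer_singleton_iff.2 ha
    rw [h.cen_eq] at this
    refine (closure_le _).2 ?_ this
    rintro _ (rfl | rfl | rfl | rfl) <;> assumption
  have hc : ∀ u, u * (i * i) = i * i * u → u * u = 1 → u ≠ 1 →
      ∃ a ∈ φ.range, a * (i * i) * a⁻¹ = u := fun u u1 u2 u3 => by
    rcases h.f_cls u1 u2 with q | q | ⟨a, a1, a2⟩
    · exact (u3 q).elim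
    · exact ⟨1, one_mem _, by rw [q]; group⟩
    have k : ∀ b v, b ∈ φ.range → b * (i * i) * b⁻¹ = v → a * u = v * a →
        ∃ a ∈ φ.range, a * (i * i) * a⁻¹ = u := fun b v hb b1 b2 =>
      ⟨a⁻¹ * b, mul_mem (inv_mem (hC a a1)) hb, by
        calc _ = a⁻¹ * (b * (i * i) * b⁻¹ * a) := by group
          _ = u := by rw [b1, ← b2, inv_mul_cancel_left]⟩
    rcases a2 with a2 | a2 | a2
    · exact k _ _ (mul_mem (mul_mem me mi) me) (h.conj_d g') a2
    · exact k _ _ mc g.cyc.1 a2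
    · exact k _ _ me g'.cyc.1 a2
  have htop := OR.eq_top_of_d8 φ.range h.i4 h.z1 hC hc ms mt h.ss h.tt h.st
  have hs := H15.LF.U43.simple
  have hinj : Function.Injective φ := by
    rw [← MonoidHom.ker_eq_bot_iff]
    refine (φ.normal_ker.eq_bot_or_eq_top).resolve_right fun htop => h.z1 ?_
    obtain ⟨a, rfl⟩ := mi
    rw [show φ a = 1 from (htop ▸ mem_top a : a ∈ φ.ker), one_mul]
  have E := (MulEquiv.ofBijective φ ⟨hinj, MonoidHom.range_eq_top.1 htop⟩).symm
  have hG : Nat.card G = 3265920 := (Nat.card_congr E.toEquiv).trans H15.LF.U43.card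
  refine ⟨⟨E⟩, hG, fun u u2 u1 => ?_⟩
  have hi := card_mul_index (centralizer ({i * i} : Set G))
  rw [h.card, hG] at hi
  obtain ⟨b, hb⟩ := exists_conj_mem (C := centralizer ({i * i} : Set G)) (by omega) u2
  obtain ⟨a, -, ha⟩ := hc _ (mem_centralizer_singleton_iff.1 hb) (by rw [conj_mul, u2]; group)
    fun e' => u1 (conj_eq_one_iff.1 e')
  exact (isConj_iff.2 ⟨a, ha⟩).trans (isConj_iff.2 ⟨b, rfl⟩).symm

end Cen

end Cfsg.Agent.ORD
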