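import Cfsg.Agent.OR.D1
import Cfsg.Agent.OR.DC
import Cfsg.Agent.H22.Core
import Cfsg.Agent.S1265

/-! Groups of type `U₄(3)`. -/

set_option autoImplicit false

namespace Cfsg.Agent.ORD

open Subgroup QQ S0106

variable {G : Type*} [Group G]

/-- two copies of `SL(2,3)` that form a central product -/
structure Two (z : G) (φ ψ : SL23 →* G) : Prop where
  comm : ∀ a b, Commute (φ a) (ψ b)
  z₁ : φ (-1) = z
  z₂ : ψ (-1) = z
  ker : ∀ a b, φ a * ψ b = 1 → a = 1 ∧ b = 1 ∨ a = -1 ∧ b = -1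

namespace Two

variable {z : G} {φ ψ : SL23 →* G} (h : Two z φ ψ)
include h

theorem cond_eq (e : Bool) : φ (cond e (-1) 1) = ψ (cond e (-1) 1) := by
  cases e
  · exact (map_one φ).trans (map_one ψ).symm
  · exact h.z₁.trans h.z₂.symm

theorem mul_mul (a b c d : SL23) : φ a * ψ b * (φ c * ψ d) = φ (a * c) * ψ (b * d) := by
  rw [map_mul, map_mul, (h.comm c b).symm.mul_mul_mul_comm]

theorem conj (a b c d : SL23) :
    φ c * ψ d * (φ a * ψ b) * (φ c * ψ d)⁻¹ = φ (c * a * c⁻¹) * ψ (d * b * d⁻¹) := by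
  rw [mul_inv_eq_iff_eq_mul, h.mul_mul, h.mul_mul, inv_mul_cancel_right, inv_mul_cancel_right]

/-- the embedding of the central product of the quaternion groups -/
def rho : QQ →* G := MonoidHom.mk' (fun p => φ (sg p.a p.b p.e) * ψ (sg p.c p.d false))
  fun p q => by
    rw [h.mul_mul, sg_mul, sg_mul, sg_xor _ _ (false ^^ false), map_mul, ← h.cond_eq,
      ← (h.comm _ _).eq, ← mul_assoc, ← map_mul, ← sg_xor]
    rfl

theorem rho_apply (p : QQ) : h.rho p = φ (sg p.a p.b p.e) * ψ (sg p.c p.d false) := rfl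

theorem mem_range {u : G} :
    u ∈ h.rho.range ↔ ∃ a b, a ^ 4 = 1 ∧ b ^ 4 = 1 ∧ u = φ a * ψ b := by
  have k : ∀ a b e, sg a b e ^ 4 = 1 := by decide +kernel
  refine ⟨fun ⟨p, e⟩ => ⟨_, _, k _ _ _, k _ _ _, e.symm⟩, ?_⟩
  rintro ⟨a, b, ha, hb, rfl⟩
  obtain ⟨a1, a2, a3, rfl⟩ := sg_surj a ha
  obtain ⟨b1, b2, b3, rfl⟩ := sg_surj b hb
  refine ⟨⟨a1, a2, b1, b2, a3 ^^ b3⟩, ?_⟩
  rw [rho_apply, sg_xor, map_mul, mul_assoc, (h.comm _ _).eq, h.cond_eq, ← map_mul, ← sg_xor,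
    Bool.false_xor]

theorem mem_range_of_pow {a b : SL23} {k : ℕ} (e : (φ a * ψ b) ^ 2 ^ k = 1) :
    φ a * ψ b ∈ h.rho.range := by
  rw [(h.comm a b).mul_pow, ← map_pow, ← map_pow] at e
  have k1 : ∀ x : SL23, x ^ 2 ^ k = 1 ∨ x ^ 2 ^ k = -1 → x ^ 4 = 1 := fun x hx => by
    have e1 : x ^ 2 ^ (k + 1) = 1 := by
      rw [pow_succ, pow_mul]
      rcases hx with e | e <;> rw [e]
      · exact one_pow 2
      · decide +kernel
    have e2 : ∀ x : SL23, x ^ (4 * 3) = 1 := by decide +kernel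
    refine orderOf_dvd_iff_pow_eq_one.1 (Nat.Coprime.dvd_of_dvd_mul_right ?_
      (orderOf_dvd_of_pow_eq_one (e2 x)))
    exact (Nat.Coprime.pow_left (k + 1) (by decide : Nat.Coprime 2 3)).coprime_dvd_left
      (orderOf_dvd_of_pow_eq_one e1)
  exact h.mem_range.2 ⟨a, b, k1 a ((h.ker _ _ e).imp And.left And.left),
    k1 b ((h.ker _ _ e).imp And.right And.right), rfl⟩

theorem rho_gen : h.rho Z = z ∧ h.rho I1 = φ mI ∧ h.rho J1 = φ mJ ∧ h.rho I2 = ψ mI ∧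
    h.rho J2 = ψ mJ ∧ h.rho T = φ mI * ψ mI := by
  simp [rho_apply, sg, Z, I1, J1, I2, J2, T, h.z₁]

theorem bq (norm : ∀ u, u * z = z * u → ∀ p, ∃ q, u * h.rho p * u⁻¹ = h.rho q)
    (cent : ∀ u, (∀ p, u * h.rho p = h.rho p * u) → u ∈ h.rho.range)
    (nwc : ∃ g, g * z * g⁻¹ ∈ h.rho.range ∧ g * z * g⁻¹ ≠ z)
    (four : ∀ g, g * z * g⁻¹ ∈ h.rho.range → g * z * g⁻¹ ≠ z →
      Nat.card ↥(h.rho.range ⊓ h.rho.range.map (MulAut.conj g).toMonoidHom) = 4) :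
    Bq z h.rho := by
  obtain ⟨r1, r2, r3, r4, r5, r6⟩ := h.rho_gen
  obtain ⟨-, -, -, k4, k5, k6⟩ := H78.SL23_rels
  refine ⟨(injective_iff_map_eq_one _).2 fun p e => sg_ker p (h.ker _ _ e), r1,
    fun p p2 p1 pz => ?_, ⟨φ mW, ?_, ?_, ?_, ?_, ?_⟩, norm, cent, nwc, four⟩
  · obtain ⟨⟨a, ha⟩, b, hb⟩ := sg_cls p p2 p1 pz
    refine ⟨φ a * ψ b, (Commute.mul_left ?_ ?_).eq, by rw [r6, h.conj, ha, hb, rho_apply]⟩
    · rw [← h.z₂]; exact h.comm _ _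
    · rw [← h.z₁]; exact (h.comm _ _).symm
  · rw [← pow_three, ← map_pow, k4, map_one]
  · rw [r2, r3, ← map_inv, ← map_mul, ← map_mul, k5]
  · rw [r2, r3, ← map_inv, ← map_mul, ← map_mul, k6, map_mul]
  · rw [r4]; exact h.comm _ _
  · rw [r5]; exact h.comm _ _

end Two

theorem exists_two {z : G} (hz : orderOf z = 2) {C : Subgroup G} (hC : C = centralizer {z})
    (H₁ H₂ : Subgroup C)
    (hn₁ : (H₁.subgroupOf (H₁ ⊔ H₂)).Normal) (hn₂ : (H₂.subgroupOf (H₁ ⊔ H₂)).Normal)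
    (e₁ : H₁ ≃* SL23) (e₂ : H₂ ≃* SL23)
    (hmeet : (H₁ ⊓ H₂).map C.subtype = zpowers z) :
    ∃ φ ψ : SL23 →* G, Two z φ ψ ∧ ∀ u : G,
      u ∈ (H₁ ⊔ H₂).map C.subtype ↔ ∃ a b, u = φ a * ψ b := by
  have mem : ∀ u, u ∈ C ↔ u * z = z * u := fun u => by rw [hC, mem_centralizer_singleton_iff]
  have zz : z * z = 1 := by rw [← sq, ← hz, pow_orderOf_eq_one]
  have z1 : z ≠ 1 := fun e => by simp [e] at hz
  have two : ∀ u : C, u ∈ H₁ → u ∈ H₂ → (u : G) = 1 ∨ (u : G) = z := fun u h1 h2 => by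
    have : (u : G) ∈ zpowers z := hmeet ▸ ⟨u, ⟨h1, h2⟩, rfl⟩
    exact mem_zpowers_two zz this
  obtain ⟨w, ⟨w1, w2⟩, hw⟩ : z ∈ (H₁ ⊓ H₂).map C.subtype := hmeet ▸ mem_zpowers z
  have key : ∀ (H : Subgroup C) (e : H ≃* SL23), w ∈ H → ∃ φ : SL23 →* C, φ.range = H ∧
      ∀ a, ((φ a : G) = 1 ↔ a = 1) ∧ ((φ a : G) = z ↔ a = -1) := fun H e hH => by
    have inj : Function.Injective (C.subtype.comp (H.subtype.comp e.symm.toMonoidHom)) :=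
      C.subtype_injective.comp (H.subtype_injective.comp e.symm.injective)
    have k : ∀ a : SL23, a * a = 1 → a ≠ 1 → a = -1 := by decide +kernel
    have e1 : C.subtype.comp (H.subtype.comp e.symm.toMonoidHom) (e ⟨w, hH⟩) = z := by
      simpa using hw
    have e2 : e ⟨w, hH⟩ = -1 := k _ (inj (by rw [map_mul, e1, zz, map_one]))
      fun e' => z1 (by rw [← e1, e', map_one])
    refine ⟨H.subtype.comp e.symm.toMonoidHom, ?_, fun a => ⟨map_eq_one_iff _ inj, ?_⟩⟩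
    · rw [MonoidHom.range_comp, MonoidHom.range_eq_top.2 e.symm.surjective,
        ← MonoidHom.range_eq_map, range_subtype]
    · rw [← e2, ← e1]
      exact inj.eq_iff
  obtain ⟨φ, rfl, hφ⟩ := key H₁ e₁ w1
  obtain ⟨ψ, rfl, hψ⟩ := key H₂ e₂ w2
  have n1 := (normal_subgroupOf_iff le_sup_left).1 hn₁
  have n2 := (normal_subgroupOf_iff le_sup_right).1 hn₂
  have c3 : ∀ a b, a * (a * a) = 1 → Commute (φ a : G) (ψ b) := fun a b ha => by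
    have a3 : (φ a : G) * (φ a * φ a) = 1 := by
      rw [← coe_mul, ← coe_mul, ← map_mul, ← map_mul, ha, map_one, coe_one]
    rcases two (ψ b * φ a * (ψ b)⁻¹ * (φ a)⁻¹)
      (mul_mem (n1 _ _ ⟨a, rfl⟩ (mem_sup_right ⟨b, rfl⟩)) (inv_mem ⟨a, rfl⟩)) (by
        have := mul_mem (⟨b, rfl⟩ : ψ b ∈ ψ.range)
          (n2 _ (φ a) (inv_mem ⟨b, rfl⟩) (mem_sup_left ⟨a, rfl⟩))
        simpa only [mul_assoc] using this) with e | e
    · exact (comm_of_conj_eq (mul_inv_eq_one.1 e)).symm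
    · refine (z1 (eq_one_of_cube (a := ψ b * φ a * (ψ b : G)⁻¹) ?_ a3 zz
        ((mem _).1 (φ a).2).symm (eq_mul_of_mul_inv_eq e))).elim
      rw [conj_mul, conj_mul, a3]; group
  have comm : ∀ a b, Commute (φ a : G) (ψ b) := fun a b => by
    have k : ∀ a : SL23, ∃ u, u * (u * u) = 1 ∧ ∃ v, v * (v * v) = 1 ∧
        u * a * v * (u * a * v * (u * a * v)) = 1 := by decide +kernel
    obtain ⟨u, hu, v, hv, hw⟩ := k a
    have := ((c3 u b hu).inv_left.mul_left (c3 _ b hw)).mul_left (c3 v b hv).inv_left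
    simpa [mul_assoc] using this
  refine ⟨C.subtype.comp φ, C.subtype.comp ψ, ⟨comm, (hφ _).2.2 rfl, (hψ _).2.2 rfl,
    fun a b e => ?_⟩, fun u => ⟨?_, ?_⟩⟩
  · have e' : φ a * ψ b = 1 := Subtype.ext e
    rcases two (φ a) ⟨a, rfl⟩ (eq_inv_of_mul_eq_one_left e' ▸ inv_mem ⟨b, rfl⟩) with q | q
    · refine Or.inl ⟨(hφ a).1.1 q, (hψ b).1.1 ?_⟩
      rwa [show C.subtype.comp φ a = 1 from q, one_mul] at e
    · refine Or.inr ⟨(hφ a).2.1 q, (hψ b).2.1 ?_⟩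
      rw [show C.subtype.comp φ a = z from q] at e
      exact mul_left_cancel (e.trans zz.symm)
  · rintro ⟨v, hv, rfl⟩
    rw [← MonoidHom.noncommCoprod_range φ ψ fun a b => Subtype.ext (comm a b)] at hv
    obtain ⟨⟨a, b⟩, rfl⟩ := hv
    exact ⟨a, b, rfl⟩
  · rintro ⟨a, b, rfl⟩
    exact ⟨φ a * ψ b, mul_mem (mem_sup_left ⟨a, rfl⟩) (mem_sup_right ⟨b, rfl⟩), rfl⟩

theorem u43 [Finite G] {z : G} (hz : orderOf z = 2) {C : Subgroup G} (hC : C = centralizer {z})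
    (H₁ H₂ : Subgroup C)
    (hn₁ : (H₁.subgroupOf (H₁ ⊔ H₂)).Normal) (hn₂ : (H₂.subgroupOf (H₁ ⊔ H₂)).Normal)
    (e₁ : H₁ ≃* SL23) (e₂ : H₂ ≃* SL23)
    (hmeet : (H₁ ⊓ H₂).map C.subtype = zpowers z)
    (Q : Subgroup C) [Q.Normal]
    (hQ : Q = (Cfsg.pCore 2 ↥(H₁ ⊔ H₂)).map (H₁ ⊔ H₂).subtype)
    (hF : Cfsg.generalizedFittingSubgroup C = Q)
    (hnwc : ∃ g : G, (∃ hq : g * z * g⁻¹ ∈ C,
      (⟨g * z * g⁻¹, hq⟩ : C) ∈ Q) ∧ g * z * g⁻¹ ≠ z)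
    (hH : Nat.card C = 2 ^ 7 * 3 ^ 2)
    (hQQg : ∀ g : G, g * z * g⁻¹ ∈ Q.map C.subtype → g * z * g⁻¹ ≠ z →
      Nat.card ↥(Q.map C.subtype ⊓
        (Q.map C.subtype).map (MulAut.conj g).toMonoidHom) = 4) :
    Nonempty (G ≃* H15.LF.U43.K) ∧ Nat.card G = 3265920 ∧
      ∀ u : G, u * u = 1 → u ≠ 1 → IsConj z u := by
  obtain ⟨φ, ψ, h, hK⟩ := exists_two hz hC H₁ H₂ hn₁ hn₂ e₁ e₂ hmeet
  have mem : ∀ u, u ∈ C ↔ u * z = z * u := fun u => by rw [hC, mem_centralizer_singleton_iff]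
  have hR : Q.map C.subtype = h.rho.range := by
    rw [hQ]
    refine le_antisymm ?_ ?_
    · rintro _ ⟨_, ⟨v, hv, rfl⟩, rfl⟩
      obtain ⟨k, hk⟩ := H22.isPGroup_pCore (p := 2) ⟨v, hv⟩
      obtain ⟨a, b, e⟩ := (hK _).1 ⟨v, v.2, rfl⟩
      have e' : C.subtype ((H₁ ⊔ H₂).subtype v) = φ a * ψ b := e
      rw [e']
      refine h.mem_range_of_pow (k := k) ?_
      rw [← e', ← map_pow, ← map_pow,
        show v ^ 2 ^ k = 1 from congrArg Subtype.val hk, map_one, map_one]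
    · intro u hu
      obtain ⟨a, b, -, -, e⟩ := h.mem_range.1 hu
      obtain ⟨v, hv, rfl⟩ := (hK u).2 ⟨a, b, e⟩
      refine ⟨v, ⟨⟨v, hv⟩, H22.le_pCore (N := h.rho.range.comap
        (C.subtype.comp (H₁ ⊔ H₂).subtype)) ⟨fun n hn k => ?_⟩ ?_ hu, rfl⟩, rfl⟩
      · obtain ⟨a, b, ha, hb, e⟩ := h.mem_range.1 hn
        obtain ⟨c, d, e'⟩ := (hK _).1 ⟨k, k.2, rfl⟩
        have e'' : C.subtype.comp (H₁ ⊔ H₂).subtype k = φ c * ψ d := e'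
        rw [mem_comap, map_mul, map_mul, map_inv, e, e'', h.conj]
        exact h.mem_range.2 ⟨_, _, by rw [conj_pow, ha]; group, by rw [conj_pow, hb]; group, rfl⟩
      · refine IsPGroup.comap_of_injective ?_ _
          (C.subtype_injective.comp (H₁ ⊔ H₂).subtype_injective)
        rintro ⟨_, p, rfl⟩
        have k : ∀ p : QQ, p ^ 2 ^ 2 = 1 := by decide +kernel
        exact ⟨2, Subtype.ext (by rw [SubgroupClass.coe_pow, ← map_pow, k, map_one, coe_one])⟩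
  have B := h.bq (fun u hu p => ?_) (fun u hu => ?_) ?_ (hR ▸ hQQg)
  · obtain ⟨x, i, t, s, rfl, R, c1, c2⟩ := B.exists_rel
    exact Cen.main ⟨R, B.z1, hC ▸ hH⟩ c1 c2
  · obtain ⟨v, hv, e⟩ : h.rho p ∈ Q.map C.subtype := hR ▸ ⟨p, rfl⟩
    obtain ⟨q, hq⟩ : u * h.rho p * u⁻¹ ∈ h.rho.range := hR ▸
      ⟨_, (inferInstance : Q.Normal).conj_mem v hv ⟨u, (mem u).2 hu⟩, by
        rw [← e]; rfl⟩
    exact ⟨q, hq.symm⟩
  · have hu' : u ∈ C := (mem u).2 (h.rho_gen.1 ▸ hu Z)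
    rw [← hR]
    refine ⟨⟨u, hu'⟩, hF ▸ S1265.result (mem_centralizer_iff.2 fun v hv => Subtype.ext ?_), rfl⟩
    obtain ⟨p, hp⟩ : (v : G) ∈ h.rho.range := hR ▸ ⟨v, hF ▸ hv, rfl⟩
    show (v : G) * u = u * v
    rw [← hp, hu]
  · obtain ⟨g, ⟨hq, hg⟩, hg'⟩ := hnwc
    exact ⟨g, hR ▸ ⟨_, hg, rfl⟩, hg'⟩

end Cfsg.Agent.ORD
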