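/-
The centraliser of an involution of G₂(3): data and facts (generated).
-/
import Cfsg.Agent.OR.Pres

set_option autoImplicit false

namespace Cfsg.Agent.OR.G2

open H14

/-- codes of the letters `1 a A b B c C d D y` -/
def letH : List ℕ := [nat_lit 0xbdab49ca307b9ac5a928398a418820, nat_lit 0x40e4b23dc5a8ac6041819a5476c6f4, nat_lit 0xb5e03d44a94469a14d723213b390b, nat_lit 0xaded2a4df18358e525673206520402, nat_lit 0xb56f39520f8b1cd4ad4641c8328041, nat_lit 0x8c1f7b569392d4941cce6b08328041, nat_lit 0xa4e5183ef6aa0e67358b5246520402, nat_lit 0x635c008a0f89464a4a6641eb7b292b, nat_lit 0x20cab4a9f1856d700827321cc6ca74, nat_lit 0x9d256bd6117a9696b9874184101483]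
def letY : List ℕ := [nat_lit 0xbdab49ca307b9ac5a928398a418820, nat_lit 0x40e4b23dc5a8ac6041819a5476c6f4, nat_lit 0xb5e03d44a94469a14d723213b390b, nat_lit 0xaded2a4df18358e525673206520402, nat_lit 0xb56f39520f8b1cd4ad4641c8328041, nat_lit 0x8c1f7b569392d4941cce6b08328041, nat_lit 0xa4e5183ef6aa0e67358b5246520402, nat_lit 0x635c008a0f89464a4a6641eb7b292b, nat_lit 0x20cab4a9f1856d700827321cc6ca74]
def gensY : List ℕ := [nat_lit 0x40e4b23dc5a8ac6041819a5476c6f4, nat_lit 0xaded2a4df18358e525673206520402, nat_lit 0x8c1f7b569392d4941cce6b08328041, nat_lit 0x635c008a0f89464a4a6641eb7b292b]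
def gensH : List ℕ := [nat_lit 0x40e4b23dc5a8ac6041819a5476c6f4, nat_lit 0xaded2a4df18358e525673206520402, nat_lit 0x8c1f7b569392d4941cce6b08328041, nat_lit 0x635c008a0f89464a4a6641eb7b292b, nat_lit 0x9d256bd6117a9696b9874184101483]
/-- codes of `a b c d j t` -/
def cY : List ℕ := [nat_lit 0x40e4b23dc5a8ac6041819a5476c6f4, nat_lit 0xaded2a4df18358e525673206520402, nat_lit 0x8c1f7b569392d4941cce6b08328041, nat_lit 0x635c008a0f89464a4a6641eb7b292b, nat_lit 0x52d2d730e834e92b5eb08bc22010a3, nat_lit 0x51602746557cc870dd0961acd1d160]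
/-- codes of `a b c d y j t` -/
def cH : List ℕ := [nat_lit 0x40e4b23dc5a8ac6041819a5476c6f4, nat_lit 0xaded2a4df18358e525673206520402, nat_lit 0x8c1f7b569392d4941cce6b08328041, nat_lit 0x635c008a0f89464a4a6641eb7b292b, nat_lit 0x9d256bd6117a9696b9874184101483, nat_lit 0x52d2d730e834e92b5eb08bc22010a3, nat_lit 0x51602746557cc870dd0961acd1d160]
def W4 : List ℕ := [nat_lit 0x99c90516cd1dd018b854581893564f, nat_lit 0x785b501e4250d3129a8465ed09a16e, nat_lit 0x9ca8952c2205eb6639a428e307a0e6, nat_lit 0x31d02006d5b8c858be095aa549b58e]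
def L8 : List ℕ := [nat_lit 0xb56f39520f8b1cd4ad4641c8328041, nat_lit 0xaded2a4df18358e525673206520402, nat_lit 0x64006b09330ade44486ea96978a9a7, nat_lit 0xb5e03d44a94469a14d723213b390b, nat_lit 0x889d70a2805955021e636daaf9192c, nat_lit 0xa18b148eec254e07b432509cb45a70, nat_lit 0x40e4b23dc5a8ac6041819a5476c6f4, nat_lit 0x24ce5828766a03770a2b050cc4c9f5]
def chYL0 : Lev := ⟨nat_lit 0, nat_lit 0xffffff, (.node (nat_lit 12) (.node (nat_lit 6) (.node (nat_lit 3) (.node (nat_lit 1) (.leaf (nat_lit 0xbdab49ca307b9ac5a928398a418820)) (.node (nat_lit 2) (.leaf (nat_lit 0xaded2a4df18358e525673206520402)) (.leaf (nat_lit 0x8c1f7b569392d4941cce6b08328041)))) (.node (nat_lit 4) (.leaf (nat_lit 0x31d0952d8d75eb68be1494c22010a3)) (.node (nat_lit 5) (.leaf (nat_lit 0x591ea3b5330c6f4158cea960060d12)) (.leaf (nat_lit 0x4a96c6b8c745253bd6d17c00111464))))) (.node (nat_lit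 9) (.node (nat_lit 7) (.leaf (nat_lit 0x99c90516cd1dd018b854581893564f)) (.node (nat_lit 8) (.leaf (nat_lit 0x45c32abc766a586540ab05267245c2)) (.leaf (nat_lit 0x3926a2c1a3b06e8145c0a2d2663eb2)))) (.node (nat_lit 10) (.leaf (nat_lit 0x9206f592ae2d8c283013485aa3de91)) (.node (nat_lit 11) (.leaf (nat_lit 0x1c9047acb571856602090cced55237)) (.leaf (nat_lit 0x40e4b23dc5a8ac6041819a5476c6f4)))))) (.node (nat_lit 18) (.node (nat_lit 15) (.node (nat_lit 13) (.leaf (nat_lit 0xab8b240deb241809a436309476c6f4)) (.node (nat_lit 14) (.leaf (nat_lit 0x2d5c39208f5b01048666159aa3de91)) (.leaf (nat_lit 0x716a81c9647820c0cd22b18ed55237)))) (.node (nat_lit 16) (.leaf (nat_lit 0x9ca8952c2205eb6639a428e307a0e6)) (.node (nat_lit 17) (.leaf (nat_lit 0x8c1ee634400ca7441cc3216b7b292b)) (.leaf (nat_lit 0x83e2c6b80115253320e5192f6aad49))))) (.node (nat_lit 21) (.node (nat_lit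 19) (.leaf (nat_lit 0x4a96110272a10a3bd6cc735f181cc8)) (.node (nat_lit 20) (.leaf (nat_lit 0x731a20063078c8594e8839ad5ba56a)) (.leaf (nat_lit 0x635c008a0f89464a4a6641eb7b292b)))) (.node (nat_lit 22) (.leaf (nat_lit 0x640178d08f59d4d4486615aae2cd21)) (.node (nat_lit 23) (.leaf (nat_lit 0x8019611a614916f1a245756f1a1d4d)) (.leaf (nat_lit 0x3202358299bc8b90d152ba34bb4ea)))))))⟩
def chYC0 : LevCert := ⟨chYL0,
    [(nat_lit 11, nat_lit 0), (nat_lit 1, nat_lit 1), (nat_lit 2, nat_lit 2), (nat_lit 20, nat_lit 3), (nat_lit 9, nat_lit 1), (nat_lit 14, nat_lit 2), (nat_lit 8, nat_lit 0), (nat_lit 19, nat_lit 3), (nat_lit 18, nat_lit 3), (nat_lit 17, nat_lit 2), (nat_lit 6, nat_lit 0), (nat_lit 10, nat_lit 1), (nat_lit 12, nat_lit 2), (nat_lit 21, nat_lit 3), (nat_lit 23, nat_lit 0), (nat_lit 7, nat_lit 3), (nat_lit 16, nat_lit 2), (nat_lit 15, nat_lit 2), (nat_lit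 5, nat_lit 0), (nat_lit 13, nat_lit 2), (nat_lit 22, nat_lit 1), (nat_lit 4, nat_lit 3), (nat_lit 3, nat_lit 2)],
    [[nat_lit 6, nat_lit 0], [nat_lit 4, nat_lit 6]],
    [nat_lit 0x35854bc4b5729a75bc890ce481c180, nat_lit 0x7c615bda549a92b3990d638a418820]⟩
def chYL1 : Lev := ⟨nat_lit 6, nat_lit 0x88c440, (.node (nat_lit 15) (.node (nat_lit 10) (.leaf (nat_lit 0xbdab49ca307b9ac5a928398a418820)) (.node (nat_lit 14) (.leaf (nat_lit 0x7c615bda549a92b3990d638a418820)) (.leaf (nat_lit 0x744557c8b05192c3cc880decd1d160)))) (.node (nat_lit 19) (.leaf (nat_lit 0x548509d8b43390b65c8d0be291d4e0)) (.node (nat_lit 23) (.leaf (nat_lit 0x9da143164253da15b90465e291d4e0)) (.leaf (nat_lit 0x35854bc4b5729a75bc890ce481c180)))))⟩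
def chYC1 : LevCert := ⟨chYL1,
    [(nat_lit 23, nat_lit 0), (nat_lit 10, nat_lit 1), (nat_lit 19, nat_lit 0), (nat_lit 14, nat_lit 0), (nat_lit 15, nat_lit 1)],
    [[nat_lit 2, nat_lit 0, nat_lit 2]],
    [nat_lit 0x51602746557cc870dd0961acd1d160]⟩
def chYL2 : Lev := ⟨nat_lit 1, nat_lit 0x802, (.node (nat_lit 11) (.leaf (nat_lit 0xbdab49ca307b9ac5a928398a418820)) (.leaf (nat_lit 0x51602746557cc870dd0961acd1d160)))⟩
def chYC2 : LevCert := ⟨chYL2,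
    [(nat_lit 11, nat_lit 0)],
    [],
    []⟩
def chY : List LevCert := [chYC0, chYC1, chYC2]
def chYL : List Lev := [chYL0, chYL1, chYL2]
def chHL0 : Lev := ⟨nat_lit 0, nat_lit 0xffffff, (.node (nat_lit 12) (.node (nat_lit 6) (.node (nat_lit 3) (.node (nat_lit 1) (.leaf (nat_lit 0xbdab49ca307b9ac5a928398a418820)) (.node (nat_lit 2) (.leaf (nat_lit 0xaded2a4df18358e525673206520402)) (.leaf (nat_lit 0x8c1f7b569392d4941cce6b08328041)))) (.node (nat_lit 4) (.leaf (nat_lit 0x9d256bd6117a9696b9874184101483)) (.node (nat_lit 5) (.leaf (nat_lit 0xa4a77ada2f8254b635c63a02010ca4)) (.leaf (nat_lit 0xb5eb08be7491d0652d2d7300209065))))) (.node (nat_lit 9) (.node (nat_lit 7) (.leaf (nat_lit 0x99c90516cd1dd018b854581893564f)) (.node (nat_lit 8) (.leaf (nat_lit 0x2baa45bc689584698530032f48b547)) (.leaf (nat_lit 0x3926a2c1a3b06e8145c0a2d2663eb2)))) (.node (nat_lit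 10) (.leaf (nat_lit 0x9206f592ae2d8c283013485aa3de91)) (.node (nat_lit 11) (.leaf (nat_lit 0x1c9047acb571856602090cced55237)) (.leaf (nat_lit 0x40e4b23dc5a8ac6041819a5476c6f4)))))) (.node (nat_lit 18) (.node (nat_lit 15) (.node (nat_lit 13) (.leaf (nat_lit 0xab8b240deb241809a436309476c6f4)) (.node (nat_lit 14) (.leaf (nat_lit 0x22de3448aeac00cb08d30a637a28ed)) (.leaf (nat_lit 0x716a81c9647820c0cd22b18ed55237)))) (.node (nat_lit 16) (.leaf (nat_lit 0x9ca8952c2205eb6639a428e307a0e6)) (.node (nat_lit 17) (.leaf (nat_lit 0x8c1ee634400ca7441cc3216b7b292b)) (.leaf (nat_lit 0x83e2c6b80115253320e5192f6aad49))))) (.node (nat_lit 21) (.node (nat_lit 19) (.leaf (nat_lit 0x4a96110272a10a3bd6cc735f181cc8)) (.node (nat_lit 20) (.leaf (nat_lit 0x731a20063078c8594e8839ad5ba56a)) (.leaf (nat_lit 0x635c008a0f89464a4a6641eb7b292b)))) (.node (nat_lit 22) (.leaf (nat_lit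 0x640178d08f59d4d4486615aae2cd21)) (.node (nat_lit 23) (.leaf (nat_lit 0x804d639f08ca931948831d495d6f6)) (.leaf (nat_lit 0x3202358299bc8b90d152ba34bb4ea)))))))⟩
def chHC0 : LevCert := ⟨chHL0,
    [(nat_lit 11, nat_lit 0), (nat_lit 1, nat_lit 1), (nat_lit 2, nat_lit 2), (nat_lit 20, nat_lit 3), (nat_lit 3, nat_lit 4), (nat_lit 9, nat_lit 1), (nat_lit 14, nat_lit 2), (nat_lit 13, nat_lit 4), (nat_lit 8, nat_lit 0), (nat_lit 19, nat_lit 3), (nat_lit 4, nat_lit 4), (nat_lit 18, nat_lit 3), (nat_lit 5, nat_lit 4), (nat_lit 17, nat_lit 2), (nat_lit 22, nat_lit 4), (nat_lit 6, nat_lit 0), (nat_lit 10, nat_lit 1), (nat_lit 12, nat_lit 2), (nat_lit 21, nat_lit 3), (nat_lit 7, nat_lit 2), (nat_lit 23, nat_lit 0), (nat_lit 16, nat_lit 2), (nat_lit 15, nat_lit 2)],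
    [[nat_lit 0, nat_lit 4, nat_lit 6, nat_lit 6, nat_lit 4, nat_lit 2, nat_lit 4, nat_lit 0, nat_lit 6, nat_lit 8], [nat_lit 2, nat_lit 8]],
    [nat_lit 0x990e1ba12c328b013a32abdb61ae80, nat_lit 0x35854bc4b5729a75bc890ce481c180]⟩
def chHL1 : Lev := ⟨nat_lit 6, nat_lit 0x88c440, (.node (nat_lit 15) (.node (nat_lit 10) (.leaf (nat_lit 0xbdab49ca307b9ac5a928398a418820)) (.node (nat_lit 14) (.leaf (nat_lit 0x791619a5a7538b511ad1a5d121b200)) (.leaf (nat_lit 0x9ca907c6d5b9907639a95a8a418820)))) (.node (nat_lit 19) (.leaf (nat_lit 0x990e1ba12c328b013a32abdb61ae80)) (.node (nat_lit 23) (.leaf (nat_lit 0xba02c324879be55828b1139b61ae80)) (.leaf (nat_lit 0x35854bc4b5729a75bc890ce481c180)))))⟩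
def chHC1 : LevCert := ⟨chHL1,
    [(nat_lit 15, nat_lit 0), (nat_lit 23, nat_lit 1), (nat_lit 10, nat_lit 1), (nat_lit 19, nat_lit 0), (nat_lit 14, nat_lit 0)],
    [[nat_lit 0, nat_lit 2, nat_lit 0, nat_lit 0, nat_lit 0, nat_lit 2, nat_lit 0, nat_lit 0, nat_lit 0], [nat_lit 4, nat_lit 2, nat_lit 4]],
    [nat_lit 0x9a4275348b7de34ab8b6119121b200, nat_lit 0x7216cb91a17aa4284ec5a193119ea0]⟩
def chHL2 : Lev := ⟨nat_lit 1, nat_lit 0x210802, (.node (nat_lit 16) (.node (nat_lit 11) (.leaf (nat_lit 0xbdab49ca307b9ac5a928398a418820)) (.leaf (nat_lit 0x51602746557cc870dd0961acd1d160))) (.node (nat_lit 21) (.leaf (nat_lit 0x7216cb91a17aa4284ec5a193119ea0)) (.leaf (nat_lit 0x9a4275348b7de34ab8b6119121b200))))⟩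
def chHC2 : LevCert := ⟨chHL2,
    [(nat_lit 21, nat_lit 0), (nat_lit 16, nat_lit 1), (nat_lit 11, nat_lit 0)],
    [],
    []⟩
def chH : List LevCert := [chHC0, chHC1, chHC2]
def chHL : List Lev := [chHL0, chHL1, chHL2]

noncomputable abbrev E : Enc (Fin 24) 24 5 32 := finEnc 24 5 32 rfl (by decide)

theorem chainY : E.IsChain chYL (E.grp gensY) :=
  Enc.isChain_of_ssOK (cs := chY) (fun P hP => E.exists_pk_of_valid
    (allL_iff.1 (by decide +kernel : allL gensY (valid 5 32 24) = true) P hP)) (by decide +kernel)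
theorem chainH : E.IsChain chHL (E.grp gensH) :=
  Enc.isChain_of_ssOK (cs := chH) (fun P hP => E.exists_pk_of_valid
    (allL_iff.1 (by decide +kernel : allL gensH (valid 5 32 24) = true) P hP)) (by decide +kernel)
theorem cardY : Nat.card (E.grp gensY) = 288 := chainY.card.trans (by decide +kernel)
theorem cardH : Nat.card (E.grp gensH) = 576 := chainH.card.trans (by decide +kernel)

section

variable {G : Type*} [Group G] {C : Code 5 32 24 chYL G} {a b c d j t : G}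

def F_l8 : Fm := (.all (.qf (.imp (.eq (.mul (.v 0) (.v 3)) (.mul (.v 3) (.v 0))) (.imp (.eq (.mul (.v 0) (.v 4)) (.mul (.v 4) (.v 0))) (.imp (.eq (.mul (.mul (.v 0) (.v 0)) (.v 0)) .one) (.imp (.ne (.v 0) .one) (.inL (.v 0) L8)))))))
theorem ok_l8 : Fm.pk 5 32 24 chYL F_l8 cY = true := by decide +kernel
theorem l8 (H : List.Forall₂ C.R cY [a, b, c, d, j, t]) :
    ∀ m ∈ C.S, m * c = c * m → m * d = d * m → m * m * m = 1 → m ≠ 1 → (∃ P ∈ L8, C.R P m) :=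
  C.sound F_l8 H ok_l8

def F_aut : Fm := (.allL L8 (.allL L8 (.imp (.eq (.mul (.mul (.v 1) (.v 0)) (.v 1)) (.mul (.mul (.v 0) (.v 1)) (.v 0))) (.imp (.ne (.v 1) (.v 0)) (.imp (.imp (.eq (.v 1) (.inv (.v 3))) (.eq (.v 0) (.inv (.v 2)))) (.imp (.imp (.eq (.v 1) (.inv (.mul (.mul (.v 2) (.v 3)) (.inv (.v 2))))) (.eq (.mul (.mul (.v 1) (.v 0)) (.inv (.v 1))) (.inv (.v 2)))) (.imp (.imp (.eq (.v 1) (.inv (.mul (.mul (.inv (.v 2)) (.v 3)) (.v 2)))) (.eq (.mul (.mul (.inv (.v 1)) (.v 0)) (.v 1)) (.inv (.v 2)))) (.or (.exL [nat_lit 0x716a235a34bbc8b0cd2d3aa481c180, nat_lit 0x51602746557cc870dd0961acd1d160, nat_lit 0x3168254ad09dc8c0bda85ba291d4e0, nat_lit 0x9ca907c6d5b9907639a95a8a418820, nat_lit 0x7cab05162275d01619243cecd1d160, nat_lit 0x548509d8b43390b65c8d0be291d4e0, nat_lit 0xbdab49ca307b9ac5a928398a418820, nat_lit 0x35854bc4b5729a75bc890ce481c180,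 nat_lit 0x9da143164253da15b90465e291d4e0, nat_lit 0x7c615bda549a92b3990d638a418820, nat_lit 0xbc695716c234d213a9a45be481c180, nat_lit 0x744557c8b05192c3cc880decd1d160] (.qf (.and (.eq (.mul (.mul (.v 0) (.v 3)) (.inv (.v 0))) (.v 2)) (.eq (.mul (.mul (.v 0) (.v 4)) (.inv (.v 0))) (.v 1))))) (.exL [nat_lit 0x3202358299bc8b90d152ba34bb4ea, nat_lit 0xb56f39520f8b1cd4ad4641c8328041, nat_lit 0xbdab49ca307b9ac5a928398a418820, nat_lit 0x13a2145c0ba40aa990f61b5f2ab0c9, nat_lit 0xb5e03d44a94469a14d723213b390b, nat_lit 0xaded2a4df18358e525673206520402] (.qf (.and (.eq (.mul (.v 0) (.v 5)) (.mul (.v 5) (.v 0))) (.and (.eq (.mul (.v 0) (.v 6)) (.mul (.v 6) (.v 0))) (.and (.or (.and (.eq (.mul (.mul (.v 0) (.v 3)) (.inv (.v 0))) (.v 3)) (.eq (.v 2) (.inv (.v 3)))) (.or (.and (.eq (.mul (.mul (.v 0) (.v 3)) (.inv (.v 0))) (.v 4)) (.eq (.v 1) (.inv (.v 4)))) (.or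 (.and (.eq (.mul (.mul (.v 0) (.v 3)) (.inv (.v 0))) (.mul (.mul (.v 3) (.v 4)) (.inv (.v 3)))) (.eq (.mul (.mul (.v 2) (.v 1)) (.inv (.v 2))) (.inv (.mul (.mul (.v 3) (.v 4)) (.inv (.v 3)))))) (.and (.eq (.mul (.mul (.v 0) (.v 3)) (.inv (.v 0))) (.mul (.mul (.inv (.v 3)) (.v 4)) (.v 3))) (.eq (.mul (.mul (.inv (.v 2)) (.v 1)) (.v 2)) (.inv (.mul (.mul (.inv (.v 3)) (.v 4)) (.v 3)))))))) (.or (.and (.eq (.mul (.mul (.v 0) (.v 4)) (.inv (.v 0))) (.v 3)) (.eq (.v 2) (.inv (.v 3)))) (.or (.and (.eq (.mul (.mul (.v 0) (.v 4)) (.inv (.v 0))) (.v 4)) (.eq (.v 1) (.inv (.v 4)))) (.or (.and (.eq (.mul (.mul (.v 0) (.v 4)) (.inv (.v 0))) (.mul (.mul (.v 3) (.v 4)) (.inv (.v 3)))) (.eq (.mul (.mul (.v 2) (.v 1)) (.inv (.v 2))) (.inv (.mul (.mul (.v 3) (.v 4)) (.inv (.v 3)))))) (.and (.eq (.mul (.mul (.v 0) (.v 4)) (.inv (.v 0))) (.mul (.mul (.inv (.v 3)) (.v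 4)) (.v 3))) (.eq (.mul (.mul (.inv (.v 2)) (.v 1)) (.v 2)) (.inv (.mul (.mul (.inv (.v 3)) (.v 4)) (.v 3)))))))))))))))))))))
theorem ok_aut : Fm.pk 5 32 24 chYL F_aut cY = true := by decide +kernel
theorem aut (H : List.Forall₂ C.R cY [a, b, c, d, j, t]) :
    ∀ x, (∃ P ∈ L8, C.R P x) → ∀ z, (∃ P ∈ L8, C.R P z) → x * z * x = z * x * z → x ≠ z → (x = b⁻¹ → z = a⁻¹) → (x = (a * b * a⁻¹)⁻¹ → x * z * x⁻¹ = a⁻¹) → (x = (a⁻¹ * b * a)⁻¹ → x⁻¹ * z * x = a⁻¹) → (∃ k ∈ C.S, k * a * k⁻¹ = x ∧ k * b * k⁻¹ = z) ∨ (∃ k ∈ C.S, k * c = c * k ∧ k * d = d * k ∧ (k * a * k⁻¹ = a ∧ x = a⁻¹ ∨ k * a * k⁻¹ = b ∧ z = b⁻¹ ∨ k * a * k⁻¹ = a * b * a⁻¹ ∧ x * z * x⁻¹ = (a * b * a⁻¹)⁻¹ ∨ k * a * k⁻¹ = a⁻¹ * b * a ∧ x⁻¹ * z * x = (a⁻¹ * b * a)⁻¹) ∧ (k * b * k⁻¹ = a ∧ x = a⁻¹ ∨ k * b * k⁻¹ = b ∧ z = b⁻¹ ∨ k * b * k⁻¹ = a * b * a⁻¹ ∧ x * z * x⁻¹ = (a * b * a⁻¹)⁻¹ ∨ k * b * k⁻¹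 = a⁻¹ * b * a ∧ x⁻¹ * z * x = (a⁻¹ * b * a)⁻¹)) :=
  C.sound F_aut H ok_aut

def F_nosq : Fm := (.all (.qf (.imp (.eq (.mul (.mul (.mul (.v 0) (.v 0)) (.v 1)) (.inv (.mul (.v 0) (.v 0)))) (.v 2)) (.imp (.eq (.mul (.mul (.mul (.v 0) (.v 0)) (.v 2)) (.inv (.mul (.v 0) (.v 0)))) (.v 1)) .ff))))
theorem ok_nosq : Fm.pk 5 32 24 chYL F_nosq cY = true := by decide +kernel
theorem nosq (H : List.Forall₂ C.R cY [a, b, c, d, j, t]) :
    ∀ m ∈ C.S, m * m * a * (m * m)⁻¹ = b → m * m * b * (m * m)⁻¹ = a → False :=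
  C.sound F_nosq H ok_nosq

def F_invY : Fm := (.all (.imp (.eq (.mul (.v 0) (.v 0)) .one) (.or (.qf (.eq (.v 0) .one)) (.or (.qf (.eq (.v 0) (.v 5))) (.exL [nat_lit 0x7c615bda549a92b3990d638a418820, nat_lit 0xbdab49ca307b9ac5a928398a418820, nat_lit 0x9ca907c6d5b9907639a95a8a418820, nat_lit 0x1c52872e4254e16382a465c2d7d0a6, nat_lit 0x548491c568702a765c90b4c2d7d0a6, nat_lit 0x1d9a93322273eb2582843cc28bc0aa, nat_lit 0x5d00a2c126606e86d86fac84e8cc87, nat_lit 0x83e36ade72a256a320ec7346520402, nat_lit 0x2c146626805c9f5406e36d84e8cc87, nat_lit 0xaded2a4df18358e525673206520402, nat_lit 0x2d5ca3b600646f44866344846b3c8b, nat_lit 0xa4e5183ef6aa0e67358b5246520402, nat_lit 0x9526f8c2b7b1cc86b1ca4ac8328041, nat_lit 0x23d676aa614d23730ac57540c84868, nat_lit 0xb56f39520f8b1cd4ad4641c8328041, nat_lit 0x4cc2b23d4768ac6754b1bd00c84868, nat_lit 0x8c1f7b569392d4941cce6b08328041,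 nat_lit 0x25d8b439e16c2d350a4535007ac469] (.qf (.eq (.mul (.mul (.v 0) (.v 7)) (.inv (.v 0))) (.v 1))))))))
theorem ok_invY : Fm.pk 5 32 24 chYL F_invY cY = true := by decide +kernel
theorem invY (H : List.Forall₂ C.R cY [a, b, c, d, j, t]) :
    ∀ m ∈ C.S, m * m = 1 → m = 1 ∨ m = j ∨ (∃ h ∈ C.S, h * t * h⁻¹ = m) :=
  C.sound F_invY H ok_invY

def F_three : Fm := (.all (.imp (.eq (.mul (.v 0) (.v 0)) .one) (.imp (.ne (.v 0) .one) (.imp (.ne (.v 0) (.v 5)) (.all (.qf (.imp (.eq (.mul (.mul (.v 0) (.v 0)) (.v 0)) .one) (.imp (.ne (.v 0) .one) (.and (.ne (.mul (.mul (.v 0) (.v 1)) (.inv (.v 0))) (.v 1)) (.ne (.mul (.mul (.v 0) (.v 1)) (.inv (.v 0))) (.mul (.v 6) (.v 1))))))))))))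
theorem ok_three : Fm.pk 5 32 24 chYL F_three cY = true := by decide +kernel
theorem three (H : List.Forall₂ C.R cY [a, b, c, d, j, t]) :
    ∀ e ∈ C.S, e * e = 1 → e ≠ 1 → e ≠ j → (∀ x ∈ C.S, x * x * x = 1 → x ≠ 1 → x * e * x⁻¹ ≠ e ∧ x * e * x⁻¹ ≠ j * e) :=
  C.sound F_three H ok_three

def F_relY : Fm := (.qf (.and (.eq (.mul (.mul (.v 5) (.v 0)) (.inv (.v 5))) (.v 1)) (.and (.eq (.mul (.mul (.v 5) (.v 1)) (.inv (.v 5))) (.v 0)) (.and (.ne (.v 0) (.v 1)) (.and (.ne (.v 0) .one) (.and (.ne (.v 1) .one) (.and (.eq (.mul (.v 5) (.v 5)) .one) (.and (.ne (.v 5) .one) (.and (.ne (.v 5) (.v 4)) (.and (.eq (.mul (.v 0) (.v 4)) (.mul (.v 4) (.v 0))) (.and (.eq (.mul (.v 1) (.v 4)) (.mul (.v 4) (.v 1))) (.and (.eq (.mul (.v 2) (.v 4)) (.mul (.v 4) (.v 2))) (.and (.eq (.mul (.v 3) (.v 4)) (.mul (.v 4) (.v 3))) (.eq (.mul (.v 5) (.v 4)) (.mul (.v 4) (.v 5))))))))))))))))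
theorem ok_relY : Fm.pk 5 32 24 chYL F_relY cY = true := by decide +kernel
theorem relY (H : List.Forall₂ C.R cY [a, b, c, d, j, t]) :
    t * a * t⁻¹ = b ∧ t * b * t⁻¹ = a ∧ a ≠ b ∧ a ≠ 1 ∧ b ≠ 1 ∧ t * t = 1 ∧ t ≠ 1 ∧ t ≠ j ∧ a * j = j * a ∧ b * j = j * b ∧ c * j = j * c ∧ d * j = j * d ∧ t * j = j * t :=
  C.sound F_relY H ok_relY

def F_uv : Fm := (.exL [nat_lit 0x548509d8b43390b65c8d0be291d4e0] (.exL [nat_lit 0x72d0254a291dc8cb4e153802d7d0a6] (.and (.qf (.eq (.mul (.v 1) (.v 1)) .one)) (.and (.qf (.eq (.mul (.v 0) (.v 0)) .one)) (.and (.qf (.eq (.mul (.mul (.v 1) (.v 0)) (.mul (.v 1) (.v 0))) (.v 6))) (.and (.qf (.eq (.mul (.v 1) (.v 7)) (.mul (.v 7) (.v 1)))) (.and (.qf (.eq (.mul (.v 0) (.v 7)) (.mul (.v 7) (.v 0)))) (.and (.exL [nat_lit 0x7c615bda549a92b3990d638a418820] (.qf (.eq (.mul (.mul (.v 0) (.v 8)) (.inv (.v 0))) (.v 2)))) (.exL [nat_lit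 0x5d00a2c126606e86d86fac84e8cc87] (.qf (.eq (.mul (.mul (.v 0) (.v 8)) (.inv (.v 0))) (.v 1))))))))))))
theorem ok_uv : Fm.pk 5 32 24 chYL F_uv cY = true := by decide +kernel
theorem uv (H : List.Forall₂ C.R cY [a, b, c, d, j, t]) :
    ∃ u ∈ C.S, ∃ v ∈ C.S, u * u = 1 ∧ v * v = 1 ∧ u * v * (u * v) = j ∧ u * t = t * u ∧ v * t = t * v ∧ (∃ h ∈ C.S, h * t * h⁻¹ = u) ∧ (∃ h ∈ C.S, h * t * h⁻¹ = v) :=
  C.sound F_uv H ok_uv

end

variable {G : Type*} [Group G] {C : Code 5 32 24 chHL G} {a b c d y j t : G}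

def F_classes : Fm := (.all (.imp (.eq (.mul (.v 0) (.v 0)) .one) (.or (.qf (.eq (.v 0) .one)) (.or (.qf (.eq (.v 0) (.v 6))) (.exL [nat_lit 0x9ca8952c2205eb6639a428e307a0e6, nat_lit 0x358499859003aa55bc8890e34bb4ea, nat_lit 0x350acb91311aa426bc27a82169ad0e, nat_lit 0x72165352a703c2d84ed148c8cbc84a, nat_lit 0x534e57560c04c29a5e3240c8b7d846, nat_lit 0x325855428b05c28abe5668c879c44e, nat_lit 0xa4e4b4a801156d773585191f181cc8, nat_lit 0x45c2ba01d1136c3540a7991f2ab0c9, nat_lit 0x4486ea956f2266164006b0a37a28ed, nat_lit 0xb5ead638642ca9352d22005f08a0c7, nat_lit 0x3d40a909af0b2e44c466a1613b390b, nat_lit 0x3cc8db0d502ae8074448b85f5924cc, nat_lit 0xbdab49ca307b9ac5a928398a418820, nat_lit 0x7c615bda549a92b3990d638a418820, nat_lit 0x9ca907c6d5b9907639a95a8a418820, nat_lit 0x9da143164253da15b90465e291d4e0, nat_lit 0x7cab05162275d01619243cecd1d160, nat_lit 0x548509d8b43390b65c8d0be291d4e0,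 nat_lit 0x754ac041a750e484cc31a5c8b7d846, nat_lit 0x4187536a575e3440e414cc8b7d846, nat_lit 0x350a70550b70e296bc3684c8cbc84a, nat_lit 0x639a95a8c83dab79ca907c46428801, nat_lit 0x5a928399cd6460fbdab49c86428801, nat_lit 0x3990d639495ca937c615bd86428801, nat_lit 0xaded2a4df18358e525673206520402, nat_lit 0x83e36ade72a256a320ec7346520402, nat_lit 0xa4e5183ef6aa0e67358b5246520402, nat_lit 0xbda85bae465a1331682548698d407, nat_lit 0x516c3260553e5568ec145c879c44e, nat_lit 0x1494e42e234c276612e03d4a6a3c2d, nat_lit 0x6d86e14586492675d00f954aa85c28, nat_lit 0xa5e3240e614c180534e5755eb258c2, nat_lit 0x3a9a45be690d846bc695714689400c, nat_lit 0xcd2d3a9e45c697716a2358689400c, nat_lit 0x5bc890cd4d396ae35854bc4689400c, nat_lit 0x5b90465ded0c84a9da14314698d407, nat_lit 0x65c8d0bdc859686548509d8698d407, nat_lit 0x540ab0512c30ecd45c32abc879c44e, nat_lit 0x145c64b2c36d5f2392605d0aa85c28,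 nat_lit 0x44866158ea691eb640178d0aeacc29, nat_lit 0x84ed148de16d4e072165352ec24942, nat_lit 0x4c46a1496e412ec3d413b40a6a3c2d, nat_lit 0x158ca69e43452f1591e0640aeacc29, nat_lit 0x4cc31a5c72434ea754ac041eb258c2, nat_lit 0x619243cee80c44e7cab05146db500b, nat_lit 0x3cc880dcc96160a744557c86db500b, nat_lit 0xdd0961a643caaf516027446db500b, nat_lit 0x54eb7228534ed048e216bc8cbc84a, nat_lit 0x1d9a93322273eb2582843cc28bc0aa, nat_lit 0x358481c8ed5020c5bc948dc299d4ae, nat_lit 0x8d2ef59200658c269d4344aae2cd21, nat_lit 0x2d5ca3b600646f44866344846b3c8b, nat_lit 0x5d00a2c126606e86d86fac84e8cc87, nat_lit 0x69d4344ac61400c8d2ef590aeacc29, nat_lit 0x25d8b439e16c2d350a4535007ac469, nat_lit 0x6bc2c25dcb40a4a350b69c007ac469, nat_lit 0x4b0c36da2e1500b955f3390aa85c28, nat_lit 0x4cc2b23d4768ac6754b1bd00c84868, nat_lit 0x23d676aa614d23730ac57540c84868, nat_lit 0x7444d1d9893028b3cc9593c28bc0aa,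 nat_lit 0x1c52872e4254e16382a465c2d7d0a6, nat_lit 0x955f3392805c5c24b0c36da0a2dd01, nat_lit 0x3d4062d10e585ed4c4738584a95c8c, nat_lit 0x2c146626805c9f5406e36d84e8cc87, nat_lit 0x5d00f954933b0c96d86e1460a2dd01, nat_lit 0x6400e2d5aa3866944877a4446b3c8b, nat_lit 0x2d0ce5a2a03da70685e34c44a95c8c, nat_lit 0x42dc34c64a15407b4277610a6a3c2d, nat_lit 0x45c2724ccc48a2e540b27d40ba586d, nat_lit 0x24cec49ae14564f70a255400ba586d, nat_lit 0x548491c568702a765c90b4c2d7d0a6, nat_lit 0x1c90d51ec235e91602045bc299d4ae] (.qf (.or (.eq (.mul (.mul (.v 0) (.v 8)) (.inv (.v 0))) (.v 1)) (.eq (.mul (.mul (.v 0) (.v 6)) (.inv (.v 0))) (.v 1)))))))))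
theorem ok_classes : Fm.pk 5 32 24 chHL F_classes cH = true := by decide +kernel
theorem classes (H : List.Forall₂ C.R cH [a, b, c, d, y, j, t]) :
    ∀ m ∈ C.S, m * m = 1 → m = 1 ∨ m = j ∨ (∃ h ∈ C.S, h * t * h⁻¹ = m ∨ h * y * h⁻¹ = m) :=
  C.sound F_classes H ok_classes

def F_cj : Fm := (.all (.qf (.eq (.mul (.v 0) (.v 6)) (.mul (.v 6) (.v 0)))))
theorem ok_cj : Fm.pk 5 32 24 chHL F_cj cH = true := by decide +kernel
theorem cj (H : List.Forall₂ C.R cH [a, b, c, d, y, j, t]) :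
    ∀ m ∈ C.S, m * j = j * m :=
  C.sound F_cj H ok_cj

def F_cF : Fm := (.all (.qf (.imp (.eq (.mul (.v 0) (.v 5)) (.mul (.v 5) (.v 0))) (.or (.eq (.v 0) .one) (.or (.eq (.v 0) (.v 6)) (.or (.eq (.v 0) (.v 5)) (.or (.eq (.v 0) (.mul (.v 6) (.v 5))) (.or (.eq (.v 0) (.v 7)) (.or (.eq (.v 0) (.mul (.v 7) (.v 6))) (.or (.eq (.v 0) (.mul (.v 7) (.v 5))) (.eq (.v 0) (.mul (.mul (.v 7) (.v 6)) (.v 5)))))))))))))
theorem ok_cF : Fm.pk 5 32 24 chHL F_cF cH = true := by decide +kernel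
theorem cF (H : List.Forall₂ C.R cH [a, b, c, d, y, j, t]) :
    ∀ m ∈ C.S, m * y = y * m → m = 1 ∨ m = j ∨ m = y ∨ m = j * y ∨ m = t ∨ m = t * j ∨ m = t * y ∨ m = t * j * y :=
  C.sound F_cF H ok_cF

def F_cF2 : Fm := (.all (.qf (.imp (.eq (.mul (.v 0) (.v 5)) (.mul (.v 5) (.v 0))) (.and (.eq (.mul (.v 0) (.v 0)) .one) (.eq (.mul (.v 0) (.v 7)) (.mul (.v 7) (.v 0)))))))
theorem ok_cF2 : Fm.pk 5 32 24 chHL F_cF2 cH = true := by decide +kernel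
theorem cF2 (H : List.Forall₂ C.R cH [a, b, c, d, y, j, t]) :
    ∀ m ∈ C.S, m * y = y * m → m * m = 1 ∧ m * t = t * m :=
  C.sound F_cF2 H ok_cF2

def F_cP : Fm := (.all (.qf (.imp (.eq (.mul (.v 0) (.v 1)) (.mul (.v 1) (.v 0))) (.imp (.eq (.mul (.v 0) (.v 3)) (.mul (.v 3) (.v 0))) (.imp (.eq (.mul (.v 0) (.v 0)) .one) (.or (.eq (.v 0) .one) (.eq (.v 0) (.v 6))))))))
theorem ok_cP : Fm.pk 5 32 24 chHL F_cP cH = true := by decide +kernel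
theorem cP (H : List.Forall₂ C.R cH [a, b, c, d, y, j, t]) :
    ∀ m ∈ C.S, m * a = a * m → m * c = c * m → m * m = 1 → m = 1 ∨ m = j :=
  C.sound F_cP H ok_cP

def F_nP : Fm := (.all (.lett (.mul (.mul (.v 0) (.v 1)) (.inv (.v 0))) (.imp (.eq (.mul (.v 0) (.v 2)) (.mul (.v 2) (.v 0))) (.imp (.eq (.mul (.v 0) (.v 4)) (.mul (.v 4) (.v 0))) (.lett (.mul (.mul (.v 1) (.v 4)) (.inv (.v 1))) (.qf (.imp (.eq (.mul (.v 0) (.v 3)) (.mul (.v 3) (.v 0))) (.imp (.eq (.mul (.v 0) (.v 5)) (.mul (.v 5) (.v 0))) (.and (.or (.and (.eq (.v 1) (.v 3)) (.eq (.v 0) (.v 5))) (.and (.eq (.v 1) (.inv (.v 3))) (.eq (.v 0) (.inv (.v 5))))) (.imp (.eq (.mul (.mul (.v 2) (.v 2)) (.v 2)) .one) (.or (.eq (.v 2) .one) (.or (.eq (.v 2) (.v 3)) (.or (.eq (.v 2) (.inv (.v 3))) (.or (.eq (.v 2) (.v 5)) (.or (.eq (.v 2) (.inv (.v 5))) (.or (.eq (.v 2) (.mul (.v 3) (.v 5))) (.or (.eq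 (.v 2) (.mul (.v 3) (.inv (.v 5)))) (.or (.eq (.v 2) (.mul (.inv (.v 3)) (.v 5))) (.eq (.v 2) (.mul (.inv (.v 3)) (.inv (.v 5))))))))))))))))))))))
theorem ok_nP : Fm.pk 5 32 24 chHL F_nP cH = true := by decide +kernel
theorem nP (H : List.Forall₂ C.R cH [a, b, c, d, y, j, t]) :
    ∀ m ∈ C.S, (m * a * m⁻¹) * a = a * (m * a * m⁻¹) → (m * a * m⁻¹) * c = c * (m * a * m⁻¹) → (m * c * m⁻¹) * a = a * (m * c * m⁻¹) → (m * c * m⁻¹) * c = c * (m * c * m⁻¹) → ((m * a * m⁻¹) = a ∧ (m * c * m⁻¹) = c ∨ (m * a * m⁻¹) = a⁻¹ ∧ (m * c * m⁻¹) = c⁻¹) ∧ (m * m * m = 1 → m = 1 ∨ m = a ∨ m = a⁻¹ ∨ m = c ∨ m = c⁻¹ ∨ m = a * c ∨ m = a * c⁻¹ ∨ m = a⁻¹ * c ∨ m = a⁻¹ * c⁻¹) :=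
  C.sound F_nP H ok_nP

def F_expo : Fm := (.all (.lett (.mul (.mul (.v 0) (.v 0)) (.v 0)) (.lett (.mul (.v 0) (.v 0)) (.lett (.mul (.v 0) (.v 0)) (.qf (.eq (.mul (.v 0) (.v 0)) .one))))))
theorem ok_expo : Fm.pk 5 32 24 chHL F_expo cH = true := by decide +kernel
theorem expo (H : List.Forall₂ C.R cH [a, b, c, d, y, j, t]) :
    ∀ m ∈ C.S, (((m * m * m) * (m * m * m)) * ((m * m * m) * (m * m * m))) * (((m * m * m) * (m * m * m)) * ((m * m * m) * (m * m * m))) = 1 :=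
  C.sound F_expo H ok_expo

def F_zz : Fm := (.all (.qf (.imp (.eq (.mul (.mul (.v 0) (.v 0)) (.v 0)) .one) (.imp (.eq (.mul (.mul (.v 5) (.v 0)) (.inv (.v 5))) (.inv (.v 0))) (.or (.eq (.v 0) .one) (.or (.or (.eq (.v 0) (.v 1)) (.eq (.inv (.v 0)) (.v 1))) (.or (.or (.eq (.v 0) (.v 4)) (.eq (.inv (.v 0)) (.v 4))) (.or (.or (.eq (.v 0) (.v 2)) (.eq (.inv (.v 0)) (.v 2))) (.or (.or (.eq (.v 0) (.v 3)) (.eq (.inv (.v 0)) (.v 3))) (.or (.or (.eq (.v 0) (.mul (.v 1) (.v 3))) (.eq (.inv (.v 0)) (.mul (.v 1) (.v 3)))) (.or (.or (.eq (.v 0) (.mul (.v 1) (.inv (.v 3)))) (.eq (.inv (.v 0)) (.mul (.v 1) (.inv (.v 3))))) (.or (.or (.eq (.v 0) (.mul (.v 1) (.v 4))) (.eq (.inv (.v 0)) (.mul (.v 1) (.v 4)))) (.or (.or (.eq (.v 0) (.mul (.v 1) (.inv (.v 4)))) (.eq (.inv (.v 0)) (.mul (.v 1) (.inv (.v 4))))) (.or (.or (.eq (.v 0) (.mul (.v 2) (.v 3))) (.eq (.inv (.v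 0)) (.mul (.v 2) (.v 3)))) (.or (.or (.eq (.v 0) (.mul (.v 2) (.inv (.v 3)))) (.eq (.inv (.v 0)) (.mul (.v 2) (.inv (.v 3))))) (.or (.or (.eq (.v 0) (.mul (.v 2) (.v 4))) (.eq (.inv (.v 0)) (.mul (.v 2) (.v 4)))) (.or (.eq (.v 0) (.mul (.v 2) (.inv (.v 4)))) (.eq (.inv (.v 0)) (.mul (.v 2) (.inv (.v 4)))))))))))))))))))))
theorem ok_zz : Fm.pk 5 32 24 chHL F_zz cH = true := by decide +kernel
theorem zz (H : List.Forall₂ C.R cH [a, b, c, d, y, j, t]) :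
    ∀ m ∈ C.S, m * m * m = 1 → y * m * y⁻¹ = m⁻¹ → m = 1 ∨ (m = a ∨ m⁻¹ = a) ∨ (m = d ∨ m⁻¹ = d) ∨ (m = b ∨ m⁻¹ = b) ∨ (m = c ∨ m⁻¹ = c) ∨ (m = a * c ∨ m⁻¹ = a * c) ∨ (m = a * c⁻¹ ∨ m⁻¹ = a * c⁻¹) ∨ (m = a * d ∨ m⁻¹ = a * d) ∨ (m = a * d⁻¹ ∨ m⁻¹ = a * d⁻¹) ∨ (m = b * c ∨ m⁻¹ = b * c) ∨ (m = b * c⁻¹ ∨ m⁻¹ = b * c⁻¹) ∨ (m = b * d ∨ m⁻¹ = b * d) ∨ m = b * d⁻¹ ∨ m⁻¹ = b * d⁻¹ :=
  C.sound F_zz H ok_zz

def F_relH : Fm := (.qf (.and (.eq (.mul (.v 6) (.v 6)) .one) (.and (.ne (.v 6) .one) (.and (.ne (.v 6) (.v 5)) (.and (.eq (.mul (.v 6) (.v 5)) (.mul (.v 5) (.v 6))) (.and (.eq (.mul (.v 6) (.v 4)) (.mul (.v 4) (.v 6))) (.and (.eq (.mul (.v 4) (.v 5)) (.mul (.v 5) (.v 4))) (.and (.ne (.v 4) .one) (.and (.ne (.v 4) (.v 5)) (.and (.eq (.mul (.mul (.mul (.v 0) (.v 1)) (.v 0)) (.v 6)) (.mul (.v 6) (.mul (.mul (.v 0) (.v 1)) (.v 0)))) (.and (.eq (.mul (.mul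 (.mul (.mul (.v 0) (.v 1)) (.v 0)) (.v 4)) (.inv (.mul (.mul (.v 0) (.v 1)) (.v 0)))) (.mul (.v 5) (.v 4))) (.and (.eq (.mul (.mul (.mul (.v 0) (.v 1)) (.v 0)) (.v 5)) (.mul (.v 5) (.mul (.mul (.v 0) (.v 1)) (.v 0)))) (.and (.ne (.v 0) .one) (.and (.ne (.v 2) .one) (.and (.ne (.v 0) (.inv (.v 0))) (.and (.ne (.v 0) (.v 2)) (.and (.ne (.inv (.v 0)) (.v 2)) (.and (.eq (.mul (.mul (.mul (.mul (.v 0) (.v 1)) (.v 0)) (.v 0)) (.inv (.mul (.mul (.v 0) (.v 1)) (.v 0)))) (.v 1)) (.and (.eq (.mul (.v 0) (.v 5)) (.mul (.v 5) (.v 0))) (.eq (.mul (.v 2) (.v 5)) (.mul (.v 5) (.v 2))))))))))))))))))))))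
theorem ok_relH : Fm.pk 5 32 24 chHL F_relH cH = true := by decide +kernel
theorem relH (H : List.Forall₂ C.R cH [a, b, c, d, y, j, t]) :
    t * t = 1 ∧ t ≠ 1 ∧ t ≠ j ∧ t * j = j * t ∧ t * y = y * t ∧ y * j = j * y ∧ y ≠ 1 ∧ y ≠ j ∧ a * b * a * t = t * (a * b * a) ∧ a * b * a * y * (a * b * a)⁻¹ = j * y ∧ a * b * a * j = j * (a * b * a) ∧ a ≠ 1 ∧ c ≠ 1 ∧ a ≠ a⁻¹ ∧ a ≠ c ∧ a⁻¹ ≠ c ∧ a * b * a * a * (a * b * a)⁻¹ = b ∧ a * j = j * a ∧ c * j = j * c :=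
  C.sound F_relH H ok_relH

def F_relF : Fm := (.and (.qf (.ne (.v 6) (.v 4))) (.and (.qf (.ne (.v 6) (.mul (.v 4) (.v 5)))) (.and (.qf (.ne (.v 6) (.mul (.mul (.v 6) (.v 5)) (.v 4)))) (.and (.qf (.ne (.v 6) (.mul (.mul (.v 6) (.v 4)) (.v 5)))) (.and (.qf (.ne (.mul (.v 4) (.v 5)) (.v 4))) (.and (.qf (.ne (.mul (.v 4) (.mul (.v 4) (.v 5))) (.mul (.v 5) (.v 4)))) (.and (.qf (.ne (.mul (.mul (.mul (.v 6) (.v 5)) (.v 4)) (.mul (.v 4) (.v 5))) (.mul (.v 6) (.v 4)))) (.and (.qf (.ne (.mul (.mul (.mul (.mul (.v 6) (.v 5)) (.v 4)) (.v 4)) (.mul (.v 4) (.v 5))) (.mul (.mul (.v 6) (.v 5)) (.v 4)))) (.and (.qf (.eq (.mul (.mul (.mul (.v 6) (.v 5)) (.v 4)) (.mul (.mul (.v 6) (.v 4)) (.v 5))) .one)) (.and (.qf (.eq (.mul (.mul (.mul (.v 6) (.v 5)) (.v 4)) (.v 4)) (.mul (.v 6) (.v 5)))) (.and (.qf (.eq (.mul (.mul (.v 6) (.v 5)) (.mul (.v 6) (.v 5))) .one)) (.and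 (.qf (.ne (.mul (.mul (.v 6) (.v 5)) (.v 4)) .one)) (.and (.qf (.ne (.mul (.mul (.v 6) (.v 5)) (.v 4)) (.v 5))) (.and (.exL [nat_lit 0x534e57560c04c29a5e3240c8b7d846] (.qf (.eq (.mul (.mul (.v 0) (.v 5)) (.inv (.v 0))) (.mul (.mul (.v 7) (.v 6)) (.v 5))))) (.and (.exL [nat_lit 0x548509d8b43390b65c8d0be291d4e0] (.qf (.eq (.mul (.mul (.v 0) (.v 5)) (.inv (.v 0))) (.mul (.v 7) (.v 5))))) (.exL [nat_lit 0x9ca8952c2205eb6639a428e307a0e6] (.qf (.eq (.mul (.mul (.v 0) (.v 5)) (.inv (.v 0))) (.mul (.v 6) (.v 5))))))))))))))))))))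
theorem ok_relF : Fm.pk 5 32 24 chHL F_relF cH = true := by decide +kernel
theorem relF (H : List.Forall₂ C.R cH [a, b, c, d, y, j, t]) :
    t ≠ y ∧ t ≠ y * j ∧ t ≠ t * j * y ∧ t ≠ t * y * j ∧ y * j ≠ y ∧ y * (y * j) ≠ j * y ∧ t * j * y * (y * j) ≠ t * y ∧ t * j * y * y * (y * j) ≠ t * j * y ∧ t * j * y * (t * y * j) = 1 ∧ t * j * y * y = t * j ∧ t * j * (t * j) = 1 ∧ t * j * y ≠ 1 ∧ t * j * y ≠ j ∧ (∃ h ∈ C.S, h * y * h⁻¹ = t * j * y) ∧ (∃ h ∈ C.S, h * y * h⁻¹ = t * y) ∧ (∃ h ∈ C.S, h * y * h⁻¹ = j * y) :=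
  C.sound F_relF H ok_relF

def F_uvH : Fm := (.exL [nat_lit 0x7358b5250735ed5a4e5183c8518440] (.exL [nat_lit 0xbd6cc734851ce544a9611021179d06] (.qf (.and (.eq (.mul (.v 1) (.v 1)) .one) (.and (.eq (.mul (.v 0) (.v 0)) .one) (.eq (.mul (.mul (.v 1) (.v 0)) (.mul (.v 1) (.v 0))) (.v 7)))))))
theorem ok_uvH : Fm.pk 5 32 24 chHL F_uvH cH = true := by decide +kernel
theorem uvH (H : List.Forall₂ C.R cH [a, b, c, d, y, j, t]) :
    ∃ u ∈ C.S, ∃ v ∈ C.S, u * u = 1 ∧ v * v = 1 ∧ u * v * (u * v) = j :=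
  C.sound F_uvH H ok_uvH

end Cfsg.Agent.OR.G2
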