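/-
The centraliser of a 3-central element of PSp(4,3): further facts (generated).
-/
import Cfsg.Agent.OR.HyData

set_option autoImplicit false

namespace Cfsg.Agent.OR.Hy

open H14 H78

/-- codes of `a b c d v t n` -/
def cK : List ℕ := [nat_lit 0x34861f5623dc46764c6d22545d62e54c69260ce7a08ca7501da144842040, nat_lit 0x3e348d8057e67a160829950605671a8899cb44e0d03029555dd4c491b1c0, nat_lit 0x7e668f8c73600e495c4dd61209654605985078e44c2e25082895c49c56c0, nat_lit 0x9d84668ce74f21e3036da82489655f0124256573612ca7141461072424c1, nat_lit 0x1912257856436128216cb7101d69e68a351f24468f34a3240554c07425ce, nat_lit 0x1a08598c59662524486cd90f1d65434de74c6046902c27dc5e788e50a040, nat_lit 0x8451a44e09e23d14872da6492000548dd7827ce34a6cc6177259840d0556]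

section

variable {G : Type*} [Group G] {C : Code 6 64 40 chCL G} {a b c d v t : G}

def F_ord3 : Fm := (.all (.imp (.eq (.mul (.mul (.v 0) (.v 0)) (.v 0)) .one) (.exL [nat_lit 0x9e69648e28607de75c6da6585d65544d24503ce34c2ca2481c61440c2040, nat_lit 0x68b41c94592130634f11d7a66d66088998157c748350e9e32894d7440081, nat_lit 0x7259a484068b7e07a32999c88963d03894544873150db3584dd117182141, nat_lit 0x44398654281469f7a54d99c83962d06c948f7079188e236111d297305001] (.qf (.and (.eq (.mul (.mul (.mul (.v 0) (.v 1)) (.inv (.v 0))) (.v 3)) (.mul (.v 3) (.mul (.mul (.v 0) (.v 1)) (.inv (.v 0))))) (.eq (.mul (.mul (.mul (.v 0) (.v 1)) (.inv (.v 0))) (.v 4)) (.mul (.v 4) (.mul (.mul (.v 0) (.v 1)) (.inv (.v 0))))))))))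
theorem ok_ord3 : Fm.pk 6 64 40 chCL F_ord3 cC = true := by decide +kernel
theorem ord3 (H : List.Forall₂ C.R cC [a, b, c, d, v, t]) :
    ∀ m ∈ C.S, m * m * m = 1 → (∃ k ∈ C.S, k * m * k⁻¹ * b = b * (k * m * k⁻¹) ∧ k * m * k⁻¹ * c = c * (k * m * k⁻¹)) :=
  C.sound F_ord3 H ok_ord3

def F_zq : Fm := (.lett (.mul (.mul (.v 2) (.v 3)) (.v 2)) (.all (.qf (.imp (.eq (.mul (.v 0) (.v 0)) (.v 7)) (.imp (.eq (.mul (.mul (.mul (.mul (.v 4) (.v 0)) (.v 4)) (.mul (.mul (.v 4) (.v 0)) (.v 4))) (.mul (.mul (.v 4) (.v 0)) (.v 4))) .one) (.or (.eq (.v 0) (.inv (.v 1))) (.or (.eq (.mul (.mul (.inv (.v 4)) (.v 0)) (.v 4)) (.inv (.mul (.mul (.v 4) (.v 1)) (.inv (.v 4))))) (.eq (.mul (.mul (.v 4) (.v 0)) (.inv (.v 4))) (.inv (.mul (.mul (.inv (.v 4)) (.v 1)) (.v 4)))))))))))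
theorem ok_zq : Fm.pk 6 64 40 chCL F_zq cC = true := by decide +kernel
theorem zq (H : List.Forall₂ C.R cC [a, b, c, d, v, t]) :
    ∀ m ∈ C.S, m * m = t → c * m * c * (c * m * c) * (c * m * c) = 1 → m = (c * d * c)⁻¹ ∨ c⁻¹ * m * c = (c * (c * d * c) * c⁻¹)⁻¹ ∨ c * m * c⁻¹ = (c⁻¹ * (c * d * c) * c)⁻¹ :=
  C.sound F_zq H ok_zq

def F_ct12 : Fm := (.all (.imp (.eq (.mul (.v 0) (.v 6)) (.mul (.v 6) (.v 0))) (.lett (.mul (.mul (.v 0) (.v 0)) (.mul (.v 0) (.v 0))) (.qf (.eq (.mul (.mul (.v 0) (.v 0)) (.v 0)) .one)))))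
theorem ok_ct12 : Fm.pk 6 64 40 chCL F_ct12 cC = true := by decide +kernel
theorem ct12 (H : List.Forall₂ C.R cC [a, b, c, d, v, t]) :
    ∀ m ∈ C.S, m * t = t * m → (m * m * (m * m)) * (m * m * (m * m)) * (m * m * (m * m)) = 1 :=
  C.sound F_ct12 H ok_ct12

def F_q4 : Fm := (.all (.qf (.imp (.eq (.mul (.v 0) (.v 6)) (.mul (.v 6) (.v 0))) (.imp (.eq (.mul (.mul (.v 0) (.v 0)) (.mul (.v 0) (.v 0))) .one) (.and (.or (.eq (.v 0) .one) (.or (.eq (.v 0) (.v 6)) (.eq (.mul (.v 0) (.v 0)) (.v 6)))) (.and (.or (.eq (.mul (.inv (.mul (.mul (.inv (.v 3)) (.v 0)) (.v 3))) (.mul (.mul (.v 3) (.v 0)) (.inv (.v 3)))) (.v 0)) (.eq (.mul (.inv (.mul (.mul (.inv (.v 3)) (.v 0)) (.v 3))) (.mul (.mul (.v 3) (.v 0)) (.inv (.v 3)))) (.mul (.v 0) (.v 6)))) (.or (.eq (.mul (.mul (.mul (.v 3) (.v 0)) (.inv (.v 3))) (.inv (.mul (.mul (.inv (.v 3)) (.v 0)) (.v 3)))) (.v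 0)) (.eq (.mul (.mul (.mul (.v 3) (.v 0)) (.inv (.v 3))) (.inv (.mul (.mul (.inv (.v 3)) (.v 0)) (.v 3)))) (.mul (.v 0) (.v 6))))))))))
theorem ok_q4 : Fm.pk 6 64 40 chCL F_q4 cC = true := by decide +kernel
theorem q4 (H : List.Forall₂ C.R cC [a, b, c, d, v, t]) :
    ∀ m ∈ C.S, m * t = t * m → m * m * (m * m) = 1 → (m = 1 ∨ m = t ∨ m * m = t) ∧ ((c⁻¹ * m * c)⁻¹ * (c * m * c⁻¹) = m ∨ (c⁻¹ * m * c)⁻¹ * (c * m * c⁻¹) = m * t) ∧ (c * m * c⁻¹ * (c⁻¹ * m * c)⁻¹ = m ∨ c * m * c⁻¹ * (c⁻¹ * m * c)⁻¹ = m * t) :=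
  C.sound F_q4 H ok_q4

def F_q6 : Fm := (.lett (.mul (.mul (.v 2) (.v 3)) (.v 2)) (.all (.qf (.imp (.eq (.mul (.v 0) (.v 0)) (.v 7)) (.or (.or (.eq (.v 0) (.v 1)) (.eq (.v 0) (.mul (.v 1) (.v 7)))) (.or (.or (.eq (.mul (.mul (.v 4) (.v 0)) (.inv (.v 4))) (.v 1)) (.eq (.mul (.mul (.v 4) (.v 0)) (.inv (.v 4))) (.mul (.v 1) (.v 7)))) (.or (.eq (.mul (.mul (.inv (.v 4)) (.v 0)) (.v 4)) (.v 1)) (.eq (.mul (.mul (.inv (.v 4)) (.v 0)) (.v 4)) (.mul (.v 1) (.v 7))))))))))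
theorem ok_q6 : Fm.pk 6 64 40 chCL F_q6 cC = true := by decide +kernel
theorem q6 (H : List.Forall₂ C.R cC [a, b, c, d, v, t]) :
    ∀ m ∈ C.S, m * m = t → (m = (c * d * c) ∨ m = (c * d * c) * t) ∨ (c * m * c⁻¹ = (c * d * c) ∨ c * m * c⁻¹ = (c * d * c) * t) ∨ c⁻¹ * m * c = (c * d * c) ∨ c⁻¹ * m * c = (c * d * c) * t :=
  C.sound F_q6 H ok_q6

def F_q7 : Fm := (.lett (.mul (.mul (.v 2) (.v 3)) (.v 2)) (.qf (.and (.eq (.mul (.mul (.mul (.mul (.v 3) (.v 0)) (.inv (.v 3))) (.v 0)) (.inv (.mul (.mul (.v 3) (.v 0)) (.inv (.v 3))))) (.mul (.v 0) (.v 6))) (.and (.eq (.mul (.mul (.inv (.v 3)) (.v 0)) (.v 3)) (.mul (.mul (.mul (.v 3) (.v 0)) (.inv (.v 3))) (.v 0))) (.and (.eq (.mul (.mul (.v 0) (.mul (.mul (.v 3) (.v 0)) (.inv (.v 3)))) (.inv (.v 0))) (.mul (.mul (.mul (.v 3) (.v 0)) (.inv (.v 3))) (.v 6))) (.eq (.mul (.mul (.v 0) (.mul (.mul (.inv (.v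 3)) (.v 0)) (.v 3))) (.inv (.v 0))) (.mul (.mul (.mul (.inv (.v 3)) (.v 0)) (.v 3)) (.v 6))))))))
theorem ok_q7 : Fm.pk 6 64 40 chCL F_q7 cC = true := by decide +kernel
theorem q7 (H : List.Forall₂ C.R cC [a, b, c, d, v, t]) :
    c * (c * d * c) * c⁻¹ * (c * d * c) * (c * (c * d * c) * c⁻¹)⁻¹ = (c * d * c) * t ∧ c⁻¹ * (c * d * c) * c = c * (c * d * c) * c⁻¹ * (c * d * c) ∧ (c * d * c) * (c * (c * d * c) * c⁻¹) * (c * d * c)⁻¹ = c * (c * d * c) * c⁻¹ * t ∧ (c * d * c) * (c⁻¹ * (c * d * c) * c) * (c * d * c)⁻¹ = c⁻¹ * (c * d * c) * c * t :=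
  C.sound F_q7 H ok_q7

end

variable {G : Type*} [Group G] {C : Code 6 64 40 H56.S43.certL G} {a b c d v t n : G}

def F_wd : Fm := (.lett (.mul (.mul (.v 2) (.v 3)) (.v 2)) (.exL [nat_lit 0x160602958db5c311432285c39f4062596917669c86127a434b4e51473c2] (.qf (.eq (.mul (.mul (.v 0) (.mul (.v 1) (.mul (.mul (.v 8) (.v 1)) (.inv (.v 8))))) (.inv (.v 0))) (.mul (.v 8) (.v 7))))))
theorem ok_wd : Fm.pk 6 64 40 H56.S43.certL F_wd cK = true := by decide +kernel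
theorem wd (H : List.Forall₂ C.R cK [a, b, c, d, v, t, n]) :
    ∃ k ∈ C.S, k * ((c * d * c) * (n * (c * d * c) * n⁻¹)) * k⁻¹ = n * t :=
  C.sound F_wd H ok_wd

end Cfsg.Agent.OR.Hy
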